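import Groth.Agent.SGA3x.K16.PreimKer
import Groth.Agent.Sga3.H799.FibCrit
import Groth.Agent.Sga3B.CentRep
import Groth.Agent.Sga3B.BcPts
import Groth.Agent.Sga3C.GrpIrr
import Groth.Agent.Sga3B.InfConjFam
import Groth.Agent.Sga3B.Parab.FibIsoSch

/-!
# The inverse image of a smooth (or connected) subgroup under a faithfully flat homomorphism
-/

set_option autoImplicit false
universe u
open CategoryTheory MonoidalCategory CartesianMonoidalCategory MonObj GrpObj AlgebraicGeometry

namespace K16.PreimMain

open Groth.Agent Groth.Agent.Sga3B CentRep BcPts PreimKer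

variable {S : Scheme.{u}}

theorem geomPt_closedPoint (s : S) :
    (Red.geomPt s) (IsLocalRing.closedPoint (AlgebraicClosure (S.residueField s))) = s := by
  have h : (Spec.map (CommRingCat.ofHom (algebraMap (S.residueField s)
      (AlgebraicClosure (S.residueField s)))))
      (IsLocalRing.closedPoint (AlgebraicClosure (S.residueField s))) =
      IsLocalRing.closedPoint (S.residueField s) := Subsingleton.elim _ _
  rw [Scheme.Hom.comp_apply, h]
  exact S.fromSpecResidueField_apply s _

theorem isMonHom_of_comp {𝒞 : Type*} [Category 𝒞] [CartesianMonoidalCategory 𝒞] {A B C : 𝒞} [GrpObj A] [GrpObj B]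
    [GrpObj C] (f : A ⟶ B) (g : B ⟶ C) [IsMonHom g] [Mono g] [IsMonHom (f ≫ g)] : IsMonHom f :=
  InfConjFam.isMonHom_of_mul f fun T x y => by
    rw [← cancel_mono g, MonObj.mul_comp (x ≫ f) (y ≫ f) g, Category.assoc, Category.assoc, Category.assoc]
    exact MonObj.mul_comp x y (f ≫ g)

/-- `Spec K → Spec k` is surjective, flat and quasi-compact. -/
lemma surj_flat_qc {k K : Type u} [Field k] [Field K] (φ : k →+* K) :
    (@Surjective ⊓ @Flat ⊓ @QuasiCompact : MorphismProperty Scheme.{u})
      (Spec.map (CommRingCat.ofHom φ)) := by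
  refine ⟨⟨⟨fun y => ⟨IsLocalRing.closedPoint K, Subsingleton.elim _ _⟩⟩, ?_⟩, inferInstance⟩
  rw [HasRingHomProperty.Spec_iff (P := @Flat)]
  algebraize [φ]
  exact (inferInstance : Module.Flat k K)

/-- Smoothness can be tested on geometric fibres. -/
theorem smooth_of_geomFibres {X : Over S} [Flat X.hom] [LocallyOfFinitePresentation X.hom]
    (h : ∀ s : S, Smooth (Red.geomFibre s X).hom) : Smooth X.hom := by
  refine Smooth.of_smooth_fiberToSpecResidueField X.hom fun s => ?_
  let a : Spec (CommRingCat.of (AlgebraicClosure (S.residueField s))) ⟶ Spec (S.residueField s) :=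
    Spec.map (CommRingCat.ofHom (algebraMap (S.residueField s) (AlgebraicClosure (S.residueField s))))
  have h1 : IsPullback (Limits.pullback.fst X.hom (a ≫ S.fromSpecResidueField s))
      (Limits.pullback.snd X.hom (a ≫ S.fromSpecResidueField s)) X.hom (a ≫ S.fromSpecResidueField s) :=
    IsPullback.of_hasPullback _ _
  have h2 : IsPullback (X.hom.fiberι s) (X.hom.fiberToSpecResidueField s) X.hom (S.fromSpecResidueField s) :=
    IsPullback.of_hasPullback X.hom (S.fromSpecResidueField s)
  have h3 := IsPullback.of_right' h1 h2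
  have h4 : (@Surjective ⊓ @Flat ⊓ @QuasiCompact : MorphismProperty Scheme.{u}) a :=
    surj_flat_qc (algebraMap (S.residueField s) (AlgebraicClosure (S.residueField s)))
  exact MorphismProperty.of_isPullback_of_descendsAlong (P := @Smooth)
    (Q := @Surjective ⊓ @Flat ⊓ @QuasiCompact) h3.flip h4 (h s)

/-- Connectedness of the fibres of a group scheme. -/
theorem connectedSpace_geomFibre {X : Over S} [GrpObj X] [LocallyOfFiniteType X.hom]
    (h : ∀ s : S, _root_.IsConnected (X.hom.base ⁻¹' {s})) (s : S) : ConnectedSpace (Red.geomFibre s X).left := by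
  have : GrpObj (Over.mk X.hom) := inferInstanceAs (GrpObj X)
  have h1 : GeometricallyIrreducible X.hom := Sga3C.GrpIrr.geometricallyIrreducible_of_connected_fibres X.hom h
  have h2 : IrreducibleSpace (Red.geomFibre s X).left :=
    h1.geometrically_irreducibleSpace _ _ _ (IsPullback.of_hasPullback X.hom (Red.geomPt s))
  infer_instance

theorem isConnected_of_geomFibre {X : Over S} (s : S) (h : ConnectedSpace (Red.geomFibre s X).left) :
    _root_.IsConnected (X.hom.base ⁻¹' {s}) := by
  have h1 : X.hom.base ⁻¹' {s} = Set.range (Limits.pullback.fst X.hom (Red.geomPt s)) := by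
    ext p
    constructor
    · intro hp
      obtain ⟨p', hp', -⟩ := Scheme.Pullback.exists_preimage_pullback (f := X.hom) (g := Red.geomPt s) p
        (IsLocalRing.closedPoint (AlgebraicClosure (S.residueField s)))
        ((Set.mem_singleton_iff.1 hp).trans (geomPt_closedPoint s).symm)
      exact ⟨p', hp'⟩
    · rintro ⟨p', rfl⟩
      have e : X.hom (Limits.pullback.fst X.hom (Red.geomPt s) p') =
          Red.geomPt s (Limits.pullback.snd X.hom (Red.geomPt s) p') := by
        rw [← Scheme.Hom.comp_apply, Limits.pullback.condition, Scheme.Hom.comp_apply]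
      have e2 : Limits.pullback.snd X.hom (Red.geomPt s) p' =
          IsLocalRing.closedPoint (AlgebraicClosure (S.residueField s)) :=
        @Subsingleton.elim _ (inferInstanceAs (Subsingleton (PrimeSpectrum _))) _ _
      rw [Set.mem_preimage, Set.mem_singleton_iff]
      exact e.trans (by rw [e2]; exact geomPt_closedPoint s)
  rw [h1]
  have h2 : ConnectedSpace ↥(Limits.pullback X.hom (Red.geomPt s)) := h
  exact isConnected_range (Limits.pullback.fst X.hom (Red.geomPt s)).continuous

section

variable {G G' C' H' : Over S} [GrpObj G] [GrpObj G'] (u : G ⟶ G') [IsMonHom u] [GrpObj H'] (h' : H' ⟶ G')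
  [IsMonHom h'] [Mono h']

theorem exists_grp : ∃ (_ : GrpObj (Limits.pullback h' u)), IsMonHom (Limits.pullback.fst h' u) ∧
    IsMonHom (Limits.pullback.snd h' u) := by
  let Hs : ∀ T : Over S, Subgroup (T ⟶ G) := fun T =>
    { carrier := {g | ∃ h : T ⟶ H', h ≫ h' = g ≫ u}
      mul_mem' := by
        rintro a b ⟨x, hx⟩ ⟨y, hy⟩
        exact ⟨x * y, by rw [MonObj.mul_comp, MonObj.mul_comp, hx, hy]⟩
      one_mem' := ⟨1, by rw [MonObj.one_comp, MonObj.one_comp]⟩
      inv_mem' := by
        rintro a ⟨x, hx⟩
        exact ⟨x⁻¹, by rw [GrpObj.inv_comp, GrpObj.inv_comp, hx]⟩ }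
  obtain ⟨i1, i2⟩ := exists_grpObj (Limits.pullback.snd h' u) Hs (fun T g => by
    constructor
    · rintro ⟨a, rfl⟩
      exact ⟨a ≫ Limits.pullback.fst h' u, by rw [Category.assoc, Limits.pullback.condition, Category.assoc]⟩
    · rintro ⟨h, hh⟩
      exact ⟨Limits.pullback.lift h g hh, Limits.pullback.lift_snd _ _ _⟩)
  refine ⟨i1, ?_, i2⟩
  have : IsMonHom (Limits.pullback.fst h' u ≫ h') := by
    rw [Limits.pullback.condition]
    infer_instance
  exact isMonHom_of_comp _ h'

theorem isMonHom_map {S' : Scheme.{u}} (x : S' ⟶ S) {A B : Over S} [GrpObj A] [GrpObj B] (f : A ⟶ B) [IsMonHom f] :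
    IsMonHom ((Over.pullback x).map f) := inferInstance

/-- the kernel condition is stable under base change -/
theorem ker_bc {S' : Scheme.{u}} (x : S' ⟶ S) {P Q D : Over S} [GrpObj P] [GrpObj Q] (q : P ⟶ Q) (d : D ⟶ P)
    (hd : ∀ (T : Over S) (p : T ⟶ P), p ≫ q = 1 → ∃ a : T ⟶ D, a ≫ d = p) (T : Over S')
    (p : T ⟶ Red.bc x P) (hp : p ≫ (Over.pullback x).map q = 1) :
    ∃ a : T ⟶ Red.bc x D, a ≫ (Over.pullback x).map d = p := by
  obtain ⟨a, ha⟩ := hd _ ((bcEquiv x T P).symm p) (by
    apply (bcEquiv x T Q).injective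
    rw [bcEquiv_comp, Equiv.apply_symm_apply, hp, bcEquiv_one])
  exact ⟨bcEquiv x T D a, by rw [← bcEquiv_comp, ha, Equiv.apply_symm_apply]⟩

variable [Flat G.hom] [QuasiCompact G.hom] [LocallyOfFinitePresentation G.hom]
    [QuasiSeparated G'.hom] [LocallyOfFiniteType G'.hom]
    [Flat u.left] [Surjective u.left] [LocallyOfFinitePresentation H'.hom]
    [GrpObj C'] (c' : C' ⟶ G') [IsMonHom c'] (hle : ∃ f : C' ⟶ H', f ≫ h' = c')

include hle in
theorem setup : ∃ (_ : GrpObj (Limits.pullback h' u)) (d : Limits.pullback c' u ⟶ Limits.pullback h' u),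
    IsMonHom (Limits.pullback.fst h' u) ∧ Flat (Limits.pullback.fst h' u).left ∧
    Surjective (Limits.pullback.fst h' u).left ∧ QuasiCompact (Limits.pullback.fst h' u).left ∧
    LocallyOfFinitePresentation (Limits.pullback.fst h' u).left ∧
    ∀ (T : Over S) (p : T ⟶ Limits.pullback h' u), p ≫ Limits.pullback.fst h' u = 1 → ∃ a, a ≫ d = p := by
  obtain ⟨f, hf⟩ := hle
  obtain ⟨i1, i2, i3⟩ := exists_grp u h'
  have hsq : IsPullback (Limits.pullback.fst h' u).left (Limits.pullback.snd h' u).left h'.left u.left :=
    (IsPullback.of_hasPullback h' u).map (Over.forget S)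
  have hqc : QuasiCompact u.left := by
    have : QuasiCompact (u.left ≫ G'.hom) := by rw [Over.w]; infer_instance
    exact QuasiCompact.of_comp u.left G'.hom
  have hlfp : LocallyOfFinitePresentation u.left :=
    Sga3.H799.FibCrit.lfp_left u
  refine ⟨i1, Limits.pullback.lift (Limits.pullback.fst c' u ≫ f) (Limits.pullback.snd c' u) (by
      rw [Category.assoc, hf, Limits.pullback.condition]), i2,
    MorphismProperty.of_isPullback (P := @Flat) hsq.flip inferInstance,
    MorphismProperty.of_isPullback (P := @Surjective) hsq.flip inferInstance,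
    MorphismProperty.of_isPullback (P := @QuasiCompact) hsq.flip inferInstance,
    MorphismProperty.of_isPullback (P := @LocallyOfFinitePresentation) hsq.flip inferInstance, ?_⟩
  intro T p hp
  have h1 : (1 : T ⟶ C') ≫ c' = (p ≫ Limits.pullback.snd h' u) ≫ u := by
    rw [Category.assoc, ← Limits.pullback.condition, ← Category.assoc, hp, MonObj.one_comp, MonObj.one_comp]
  refine ⟨Limits.pullback.lift ((1 : T ⟶ C')) (p ≫ Limits.pullback.snd h' u) h1, ?_⟩
  apply Limits.pullback.hom_ext
  · rw [Category.assoc, Limits.pullback.lift_fst, Limits.pullback.lift_fst_assoc, hp, ← cancel_mono h',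
      Category.assoc, hf, MonObj.one_comp, MonObj.one_comp]
  · rw [Category.assoc, Limits.pullback.lift_snd, Limits.pullback.lift_snd]

include hle in
theorem smooth_main (h1 : Smooth (Limits.pullback c' u).hom) (h2 : Smooth H'.hom) :
    Smooth (Limits.pullback h' u).hom := by
  obtain ⟨i1, d, i2, q1, q2, q3, q4, hd⟩ := setup u h' c' hle
  have hf : Flat (Limits.pullback h' u).hom := by
    rw [← Over.w (Limits.pullback.fst h' u)]
    infer_instance
  have hlfp : LocallyOfFinitePresentation (Limits.pullback h' u).hom := by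
    rw [← Over.w (Limits.pullback.fst h' u)]
    infer_instance
  refine smooth_of_geomFibres fun s => ?_
  let x := Red.geomPt s
  let q : Red.bc x (Limits.pullback h' u) ⟶ Red.bc x H' := (Over.pullback x).map (Limits.pullback.fst h' u)
  have hsq := Sga3B.Parab.FibIsoSch.isPullback_map_left x (Limits.pullback.fst h' u)
  have j1 : Flat q.left := MorphismProperty.of_isPullback (P := @Flat) hsq inferInstance
  have j2 : Surjective q.left := MorphismProperty.of_isPullback (P := @Surjective) hsq inferInstance
  have j3 : QuasiCompact q.left := MorphismProperty.of_isPullback (P := @QuasiCompact) hsq inferInstance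
  have j4 : Smooth (Red.bc x H').hom := inferInstanceAs (Smooth (Limits.pullback.snd _ _))
  have j5 : Smooth (Red.bc x (Limits.pullback c' u)).hom := inferInstanceAs (Smooth (Limits.pullback.snd _ _))
  have j6 : IsReduced (Red.bc x H').left := Books.AlgPtsSmooth.isReduced_of_smooth _
  have j7 : IsReduced (Red.bc x (Limits.pullback c' u)).left := Books.AlgPtsSmooth.isReduced_of_smooth _
  have j8 : LocallyOfFiniteType (Red.bc x (Limits.pullback h' u)).hom :=
    inferInstanceAs (LocallyOfFiniteType (Limits.pullback.snd _ _))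
  exact smooth_of_ker q ((Over.pullback x).map d) (ker_bc x _ d hd)

include hle in
theorem conn_main (hC : LocallyOfFiniteType C'.hom)
    (hCm : Mono c')
    (h1 : ∀ s : S, _root_.IsConnected ((Limits.pullback c' u).hom.base ⁻¹' {s}))
    (h2 : ∀ s : S, _root_.IsConnected (H'.hom.base ⁻¹' {s})) (s : S) :
    _root_.IsConnected ((Limits.pullback h' u).hom.base ⁻¹' {s}) := by
  obtain ⟨i1, d, i2, q1, q2, q3, q4, hd⟩ := setup u h' c' hle
  obtain ⟨k1, k2, -⟩ := exists_grp u c'
  have hlfp : LocallyOfFinitePresentation (Limits.pullback h' u).hom := by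
    rw [← Over.w (Limits.pullback.fst h' u)]
    infer_instance
  have hlfp' : LocallyOfFiniteType (Limits.pullback c' u).hom := by
    have hlfp : LocallyOfFinitePresentation u.left := Sga3.H799.FibCrit.lfp_left u
    have hsq : IsPullback (Limits.pullback.fst c' u).left (Limits.pullback.snd c' u).left c'.left u.left :=
      (IsPullback.of_hasPullback c' u).map (Over.forget S)
    have : LocallyOfFinitePresentation (Limits.pullback.fst c' u).left :=
      MorphismProperty.of_isPullback (P := @LocallyOfFinitePresentation) hsq.flip inferInstance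
    rw [← Over.w (Limits.pullback.fst c' u)]
    infer_instance
  refine isConnected_of_geomFibre s ?_
  let x := Red.geomPt s
  let q : Red.bc x (Limits.pullback h' u) ⟶ Red.bc x H' := (Over.pullback x).map (Limits.pullback.fst h' u)
  have hsq := Sga3B.Parab.FibIsoSch.isPullback_map_left x (Limits.pullback.fst h' u)
  have j1 : Flat q.left := MorphismProperty.of_isPullback (P := @Flat) hsq inferInstance
  have j2 : Surjective q.left := MorphismProperty.of_isPullback (P := @Surjective) hsq inferInstance
  have j3 : LocallyOfFinitePresentation q.left :=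
    MorphismProperty.of_isPullback (P := @LocallyOfFinitePresentation) hsq inferInstance
  have j4 : LocallyOfFiniteType (Red.bc x H').hom :=
    inferInstanceAs (LocallyOfFiniteType (Limits.pullback.snd _ _))
  have j8 : LocallyOfFiniteType (Red.bc x (Limits.pullback h' u)).hom :=
    inferInstanceAs (LocallyOfFiniteType (Limits.pullback.snd _ _))
  have j5 : ConnectedSpace (Red.bc x H').left := connectedSpace_geomFibre h2 s
  have j6 : ConnectedSpace (Red.bc x (Limits.pullback c' u)).left := connectedSpace_geomFibre h1 s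
  exact connectedSpace_of_ker q q.left.isOpenMap ((Over.pullback x).map d) (ker_bc x _ d hd)

end

end K16.PreimMain
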