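import Groth.Agent.SGA3x.K16.TorsGen
import Groth.Agent.SGA3x.K5.MTTransp
import Groth.Agent.SGA3x.K10.MTLoc
import Groth.Agent.SGA3x.K12.DenseRep

/-!
# The centralizer of a diagonalizable subgroup is the centralizer of one of its torsion subgroups
-/

set_option autoImplicit false
universe u
open CategoryTheory MonoidalCategory CartesianMonoidalCategory MonObj GrpObj AlgebraicGeometry Limits

namespace K16.TorsCent

open Groth.Agent Groth.Agent.Sga3B.DSPts Groth.Agent.Sga3.H816.TorsDense TorsGen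

variable {S : Scheme.{u}}

instance isFinite_DS (P : Type) [AddCommGroup P] [Finite P] : IsFinite (Red.DS S P).hom := by
  have : IsFinite (Red.diag (ULift.{u} ℤ) P).hom := by
    change IsFinite (Spec.map (CommRingCat.ofHom (algebraMap (ULift.{u} ℤ)
      (MonoidAlgebra (ULift.{u} ℤ) (Multiplicative P)))))
    rw [IsFinite.SpecMap_iff]
    change (algebraMap (ULift.{u} ℤ) (MonoidAlgebra (ULift.{u} ℤ) (Multiplicative P))).Finite
    rw [RingHom.finite_algebraMap]
    exact Module.Finite.equiv (MonoidAlgebra.coeffLinearEquiv (ULift.{u} ℤ)).symm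
  exact inferInstanceAs (IsFinite (pullback.snd _ _))

theorem isMonHom_DSmap {M N : Type} [AddCommGroup M] [AddCommGroup N] (φ : M →+ N) :
    IsMonHom (Red.DSmap S φ) :=
  Sga3B.InfConjFam.isMonHom_of_mul _ fun T x y => by
    rw [← dsEquiv_dsChar x, ← dsEquiv_dsChar y, ← map_mul, dsEquiv_DSmap, dsEquiv_DSmap, dsEquiv_DSmap, ← map_mul]
    rfl

/-- `g` centralizes `u : Q ⟶ G` -/
def Cent {G Q : Over S} [GrpObj G] (u : Q ⟶ G) {X : Over S} (g : X ⟶ G) : Prop :=
  ∀ (X' : Over S) (x : X' ⟶ X) (h : X' ⟶ Q), (x ≫ g) * (h ≫ u) = (h ≫ u) * (x ≫ g)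

variable {M : Type} [AddCommGroup M] [AddGroup.FG M] {G : Over S} [GrpObj G] (u : Red.DS S M ⟶ G)

theorem cent_of_forall [IsSeparated G.hom] {X : Over S} (g : X ⟶ G)
    (h : ∀ n : ℕ+, Cent (Red.DSmap S (pn M n) ≫ u) g) : Cent u g := by
  have h1 : ((snd (Red.DS S M) X ≫ g) * (fst (Red.DS S M) X ≫ u)) =
      ((fst (Red.DS S M) X ≫ u) * (snd (Red.DS S M) X ≫ g)) := by
    refine eq_of_sep (sep_pn M) _ _ fun n T d x => ?_
    have h2 := h n T x d
    simp only [MonObj.comp_mul, lift_snd_assoc, lift_fst_assoc]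
    rw [← Category.assoc] at h2
    exact h2
  intro X' x d
  have h2 := congrArg (fun f => lift d x ≫ f) h1
  simpa only [MonObj.comp_mul, lift_snd_assoc, lift_fst_assoc] using h2

omit [AddGroup.FG M] in
theorem cent_mono {n m : ℕ+} (h : n ∣ m) {X : Over S} {g : X ⟶ G}
    (hg : Cent (Red.DSmap S (pn M m) ≫ u) g) : Cent (Red.DSmap S (pn M n) ≫ u) g := by
  obtain ⟨c, hc⟩ := h
  have hle : (nsmulAddMonoidHom (m : ℕ) : M →+ M).range ≤ (nsmulAddMonoidHom (n : ℕ) : M →+ M).range := by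
    rintro _ ⟨x, rfl⟩
    refine ⟨(c : ℕ) • x, ?_⟩
    rw [hc]
    change (n : ℕ) • (c : ℕ) • x = ((n * c : ℕ+) : ℕ) • x
    rw [PNat.mul_coe, mul_smul]
  let q : Pn M m →+ Pn M n := QuotientAddGroup.map _ _ (AddMonoidHom.id M) hle
  have hq : q.comp (pn M m) = pn M n := by
    ext x
    rfl
  intro X' x d
  have h1 := hg X' x (d ≫ Red.DSmap S q)
  have h2 : (d ≫ Red.DSmap S q) ≫ Red.DSmap S (pn M m) ≫ u = d ≫ Red.DSmap S (pn M n) ≫ u := by
    have e1 : Red.DSmap S q ≫ Red.DSmap S (pn M m) = Red.DSmap S (pn M n) := by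
      rw [← hq]
      obtain ⟨χ, hχ⟩ : ∃ χ, dsEquiv (Red.DS S (Pn M n)) (Pn M n) χ = 𝟙 _ := ⟨_, dsEquiv_dsChar _⟩
      rw [← Category.id_comp (Red.DSmap S q), ← hχ, dsEquiv_DSmap, dsEquiv_DSmap,
        ← Category.id_comp (Red.DSmap S (q.comp (pn M m))), ← hχ, dsEquiv_DSmap]
      rfl
    simp only [Category.assoc]
    rw [← Category.assoc (Red.DSmap S q), e1]
  rw [h2] at h1
  exact h1

/-- **One torsion subgroup is enough.** -/
theorem exists_index [IsMonHom u] [AlgebraicGeometry.IsNoetherian G.left] [Smooth G.hom] [IsSeparated G.hom] :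
    ∃ n : ℕ+, ∀ (X : Over S) (g : X ⟶ G), Cent (Red.DSmap S (pn M n) ≫ u) g ↔ Cent u g := by
  have hm : ∀ n : ℕ+, IsMonHom (Red.DSmap S (pn M n)) := fun n => isMonHom_DSmap _
  have hMT : ∀ n : ℕ+, SGA3x.IsMultTypeFT (Red.DS S (Pn M n)) := fun n =>
    K10.MTLoc.of_split inferInstance ⟨Iso.refl _⟩
  choose Z i1 z hz hzc hzs hzl using fun n : ℕ+ =>
    SGA3x.K5.MTTransp.exists_centralizer (G := G) (Red.DSmap S (pn M n) ≫ u) (hMT n)
  have hle : ∀ n m : ℕ+, n ∣ m → (z n).left.ker ≤ (z m).left.ker := by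
    intro n m hnm
    obtain ⟨a, ha⟩ := ((hz n).2.2 _ (z m)).2 (cent_mono u hnm (((hz m).2.2 _ (z m)).1 ⟨𝟙 _, Category.id_comp _⟩))
    have ha' : a.left ≫ (z n).left = (z m).left := congrArg CommaMorphism.left ha
    rw [← ha']
    exact Scheme.Hom.le_ker_comp _ _
  obtain ⟨n₀, hn₀⟩ := K12.DenseRep.exists_max (fun n : ULift.{u} ℕ+ => (z n.down).left.ker) (by
    intro n m
    exact ⟨⟨n.down * m.down⟩, hle _ _ (dvd_mul_right _ _), hle _ _ (dvd_mul_left _ _)⟩)
  refine ⟨n₀.down, fun X g => ⟨fun h => cent_of_forall u g fun m => ?_, fun h X' x d => ?_⟩⟩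
  · obtain ⟨a, rfl⟩ := ((hz n₀.down).2.2 _ g).2 h
    have hm1 : IsClosedImmersion (z m).left := hzc m
    have hm2 : IsClosedImmersion (z n₀.down).left := hzc _
    let b : (Z n₀.down).left ⟶ (Z m).left := IsClosedImmersion.lift (z m).left (z n₀.down).left (hn₀ ⟨m⟩)
    have hb : b ≫ (z m).left = (z n₀.down).left := IsClosedImmersion.lift_fac _ _ _
    refine ((hz m).2.2 _ _).1 ⟨a ≫ Over.homMk b ?_, ?_⟩
    · rw [← Over.w (z m), ← Category.assoc, hb, Over.w]
    · rw [Category.assoc]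
      congr 1
      ext1
      exact hb
  · have h1 := h X' x (d ≫ Red.DSmap S (pn M n₀.down))
    rw [Category.assoc] at h1
    exact h1

end K16.TorsCent
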