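import Groth.Agent.Sga3.H795.RankEt
import Groth.Agent.Sga3.H803.CartBcAny
import Groth.Agent.Sga3.H831.CartConj
import Groth.Agent.Sga3B.DimFib

/-!
# Dimension of the Cartan subgroups of the geometric fibres

* `smooth_of_isCartanOver`: a Cartan subgroup of a smooth separated group over a field is smooth and closed;
* `dim_eq`: two Cartan subgroups over an algebraically closed field have the same dimension;
* `dim_cartan_bc`: comparison of dimensions of Cartan subgroups of geometric fibres under base change;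
* `exists_cartan_le`: the centralizer of a torus contains a Cartan subgroup.
-/

set_option autoImplicit false
universe u
open CategoryTheory MonoidalCategory CartesianMonoidalCategory MonObj GrpObj AlgebraicGeometry Limits

namespace K16.NilRank

open Groth.Agent Groth.Agent.Sga3B Groth.Agent.Sga3B.RedIso Groth.Agent.Sga3B.BcNat Groth.Agent.Sga3B.ResAlg
  Groth.Agent.Sga3B.AlgBc Groth.Agent.Sga3.H831 Groth.Agent.Sga3.H803 Groth.Agent.Sga3

/-- Two centralizers of the same subgroup are isomorphic. -/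
lemma exists_iso_centralizer {S : Scheme.{u}} {T G C Z : Over S} [GrpObj T] [GrpObj G] [GrpObj C] [GrpObj Z]
    {i : T ⟶ G} {c : C ⟶ G} {z : Z ⟶ G}
    (hc : Red.IsCentralizerOf i c) (hz : Red.IsCentralizerOf i z) : ∃ e : C ≅ Z, e.hom ≫ z = c := by
  have h1 := hc.2.1
  have h2 := hz.2.1
  obtain ⟨f, hf⟩ := (hz.2.2 C c).2 ((hc.2.2 C c).1 ⟨𝟙 _, Category.id_comp _⟩)
  obtain ⟨g, hg⟩ := (hc.2.2 Z z).2 ((hz.2.2 Z z).1 ⟨𝟙 _, Category.id_comp _⟩)
  exact ⟨⟨f, g, by rw [← cancel_mono c, Category.assoc, hg, hf, Category.id_comp],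
    by rw [← cancel_mono z, Category.assoc, hf, hg, Category.id_comp]⟩, hf⟩

section field

variable {K : Type u} [Field K]

/-- A Cartan subgroup of a smooth separated group over a field is smooth and closed. -/
theorem smooth_of_isCartanOver {G C : Over (Spec (CommRingCat.of K))} [GrpObj G] [GrpObj C]
    [Smooth G.hom] [IsSeparated G.hom] (c : C ⟶ G) (h : SGA3x.IsCartanOver K c) :
    Smooth C.hom ∧ IsClosedImmersion c.left := by
  obtain ⟨h1, h2, T, _, i, hi, hc⟩ := h
  have h3 := hi.1
  obtain ⟨Z, _, z, hz, hcl, hsm, -⟩ := H798.CentSep.exists_smooth_centralizer i hi.2.2.1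
  obtain ⟨e, he⟩ := exists_iso_centralizer hc hz
  have h4 : IsIso e.hom.left := inferInstance
  constructor
  · rw [← Over.w e.hom]
    infer_instance
  · rw [← he, Over.comp_left]
    infer_instance

variable [IsAlgClosed K]

/-- Two Cartan subgroups have the same dimension. -/
theorem dim_eq {G C₁ C₂ : Over (Spec (CommRingCat.of K))} [GrpObj G] [GrpObj C₁] [GrpObj C₂]
    [LocallyOfFiniteType G.hom] (c₁ : C₁ ⟶ G) (c₂ : C₂ ⟶ G) (h₁ : SGA3x.IsCartanOver K c₁)
    (h₂ : SGA3x.IsCartanOver K c₂) : topologicalKrullDim ↥C₁.left = topologicalKrullDim ↥C₂.left := by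
  obtain ⟨g, φ, -⟩ := CartConj.exists_conjBy c₁ c₂ h₁ h₂
  exact H795.MaxTorDim.topologicalKrullDim_of_iso φ

/-- The centralizer of a torus contains a Cartan subgroup. -/
theorem exists_cartan_le {G T C : Over (Spec (CommRingCat.of K))} [GrpObj G] [GrpObj T] [GrpObj C]
    [Smooth G.hom] [IsSeparated G.hom] (j : T ⟶ G) [IsMonHom j] [Mono j] (hT : Red.IsTorus T) (c : C ⟶ G)
    (hc : Red.IsCentralizerOf j c) :
    ∃ (C' : Over (Spec (CommRingCat.of K))) (_ : GrpObj C') (c' : C' ⟶ G) (f : C' ⟶ C),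
      SGA3x.IsCartanOver K c' ∧ f ≫ c = c' := by
  obtain ⟨T', _, i, f, hi, hf⟩ := H784.NAMain.exists_isMaximalTorus_of_torus j hT
  have h1 := hi.1
  have h2 := hi.2.1
  obtain ⟨C', _, c', hc', -, -, -⟩ := H798.CentSep.exists_smooth_centralizer i hi.2.2.1
  have h3 := hc'.1
  have h4 := hc'.2.1
  obtain ⟨g, hg⟩ := (hc.2.2 C' c').2 fun X x t => by
    have h5 := (hc'.2.2 X (x ≫ c')).1 ⟨x, rfl⟩ X (𝟙 X) (t ≫ f)
    rw [Category.id_comp, Category.assoc, hf] at h5
    exact h5
  exact ⟨C', inferInstance, c', g, ⟨h3, h4, T', inferInstance, i, hi, hc'⟩, hg⟩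

end field

section base

variable {S S' : Scheme.{u}}

/-- Comparison of Cartan subgroups of geometric fibres after base change. -/
theorem dim_cartan_bc (f : S' ⟶ S) {G : Over S} [GrpObj G] [Smooth G.hom] [IsSeparated G.hom] (t' : S')
    {C : Over (Spec (CommRingCat.of (AlgebraicClosure (S'.residueField t'))))} [GrpObj C]
    (c : C ⟶ Red.geomFibre t' (Red.bc f G)) (hc : SGA3x.IsCartanOver _ c)
    {C' : Over (Spec (CommRingCat.of (AlgebraicClosure (S.residueField (f t')))))} [GrpObj C']
    (c' : C' ⟶ Red.geomFibre (f t') G) (hc' : SGA3x.IsCartanOver _ c') :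
    topologicalKrullDim ↥C'.left = topologicalKrullDim ↥C.left := by
  obtain ⟨θ, hh⟩ := MaxTorBc636.exists_geomPt f t'
  have hlft : Smooth (Red.geomFibre (f t') G).hom :=
    inferInstanceAs (Smooth (pullback.snd G.hom (Red.geomPt (f t'))))
  have hsep : IsSeparated (Red.geomFibre (f t') G).hom :=
    inferInstanceAs (IsSeparated (pullback.snd G.hom (Red.geomPt (f t'))))
  have hsm0 : Smooth (Red.bc f G).hom := inferInstanceAs (Smooth (pullback.snd G.hom f))
  have hsm : Smooth (Red.geomFibre t' (Red.bc f G)).hom :=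
    inferInstanceAs (Smooth (pullback.snd (Red.bc f G).hom (Red.geomPt t')))
  have hsmC := (smooth_of_isCartanOver c' hc').1
  have h5 := CartBcAny.isCartanOver_bc θ hc'
  have h6 : SGA3x.IsCartanOver _ ((Over.pullback θ).map c' ≫ (und (fibIso hh G).symm).hom) :=
    Sga3.H803.CartBc.isCartanOver_of_arrow (Iso.refl (Grp.mk (Red.bc θ C'))) (fibIso hh G).symm
      (by exact (Category.id_comp _).symm) h5
  rw [← dim_eq _ c h6 hc]
  exact (@DimFib.topologicalKrullDim_baseChange_eq
    (CommRingCat.of (AlgebraicClosure (S.residueField (f t'))))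
    (CommRingCat.of (AlgebraicClosure (S'.residueField t'))) (Field.toIsField _) (Field.toIsField _) _ _
    C'.hom inferInstance θ (pullback.fst C'.hom θ) (pullback.snd C'.hom θ)
    (IsPullback.of_hasPullback C'.hom θ)).symm

/-- If `G` acquires a maximal torus after an open surjective (e.g. étale) base change, the dimension of Cartan
subgroups of the geometric fibres is locally constant. -/
theorem exists_nhd (G : Over S) [GrpObj G] [Smooth G.hom] [IsSeparated G.hom] (f : S' ⟶ S) (hf : IsOpenMap f)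
    {T : Over S'} [GrpObj T] (i : T ⟶ Red.bc f G) (hi : Red.IsMaximalTorus i) (s' : S') :
    ∃ U : S.Opens, f s' ∈ U ∧ ∃ r : WithBot ℕ∞, ∀ t : S, t ∈ U →
      ∀ (C' : Over (Spec (CommRingCat.of (AlgebraicClosure (S.residueField t))))) [GrpObj C']
        (c' : C' ⟶ Red.geomFibre t G),
        SGA3x.IsCartanOver (AlgebraicClosure (S.residueField t)) c' → topologicalKrullDim ↥C'.left = r := by
  have hsm0 : Smooth (Red.bc f G).hom := inferInstanceAs (Smooth (pullback.snd G.hom f))
  have hsp0 : IsSeparated (Red.bc f G).hom := inferInstanceAs (IsSeparated (pullback.snd G.hom f))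
  obtain ⟨C, _, c, -, -, hc, -⟩ := H798.MaxTorCent.main (Red.bc f G) T i hi
  have hCs : Smooth C.hom := hc.2.2.1
  have hloc := DimFib.isLocallyConstant_dim_geomFibre S' C
  obtain ⟨V, hV, hsV, hVc⟩ := (IsLocallyConstant.iff_exists_open _).1 hloc s'
  refine ⟨⟨f '' V, hf V hV⟩, ⟨s', hsV, rfl⟩, topologicalKrullDim ↥(Red.geomFibre s' C).left, ?_⟩
  rintro _ ⟨t', ht', rfl⟩ C' _ c' hc'
  rw [← hVc t' ht']
  exact dim_cartan_bc f t' _ (hc.2.2.2 t') c' hc'

end base

end K16.NilRank
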