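import Groth.Agent.SGA3x.K16.NormMain

/-!
# A smooth subgroup whose geometric fibres contain Cartan subgroups contains the central subgroups
-/

set_option autoImplicit false
universe u
open CategoryTheory MonoidalCategory CartesianMonoidalCategory MonObj GrpObj AlgebraicGeometry

namespace K16.CentralSub

open Groth.Agent Groth.Agent.Sga3B CentRep BcPts

theorem main {S : Scheme.{u}} {G : Over S} [GrpObj G]
    [Smooth G.hom] [QuasiCompact G.hom] (hconn : ∀ s : S, _root_.IsConnected (G.hom.base ⁻¹' {s}))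
    {H : Over S} [GrpObj H] [Smooth H.hom] (i : H ⟶ G) [IsMonHom i] [Mono i]
    (hHconn : ∀ s : S, ConnectedSpace ↥(Red.geomFibre s H).left)
    (hHC : ∀ s : S, ∃ (C' : Over (Spec (CommRingCat.of (AlgebraicClosure (S.residueField s))))) (_ : GrpObj C')
      (c' : C' ⟶ Red.geomFibre s H), SGA3x.IsCartanOver _ (c' ≫ (Over.pullback (Red.geomPt s)).map i))
    {Z : Over S} (z : Z ⟶ G)
    (hc : ∀ (X : Over S) (x : X ⟶ Z) (g : X ⟶ G), (x ≫ z) * g = g * (x ≫ z)) :
    ∃ f : Z ⟶ H, f ≫ i = z := by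
  obtain ⟨N, _, n, f, hN, -, -, -, hf, hfo⟩ := NormMain.main hconn i hHconn hHC
  have hn2 := hN.2.1
  obtain ⟨z', hz'⟩ := (hN.2.2 Z z).2 (fun X' x h => by
    refine ⟨⟨h, ?_⟩, ⟨h, ?_⟩⟩
    · rw [hc, mul_inv_cancel_right]
    · rw [_root_.mul_assoc, ← hc, inv_mul_cancel_left])
  have key : Set.range z'.left ⊆ Set.range f.left := by
    rintro _ ⟨p, rfl⟩
    let s : S := Z.hom p
    obtain ⟨C, _, c, hC⟩ := hHC s
    obtain ⟨p', hp', -⟩ := Scheme.Pullback.exists_preimage_pullback (f := Z.hom) (g := Red.geomPt s) p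
      (IsLocalRing.closedPoint (AlgebraicClosure (S.residueField s))) (NormMain.geomPt_closedPoint s).symm
    obtain ⟨-, -, T, _, j, hj, hcc⟩ := hC
    obtain ⟨a, ha⟩ := (hcc.2.2 _ ((Over.pullback (Red.geomPt s)).map z)).2 (fun X' x h => by
      have h1 := hc _ ((bcEquiv (Red.geomPt s) X' Z).symm x) ((bcEquiv (Red.geomPt s) X' G).symm (h ≫ j))
      have h2 := congrArg (bcMulEquiv (Red.geomPt s) X' G) h1
      rw [map_mul, map_mul] at h2
      have e1 : bcMulEquiv (Red.geomPt s) X' G ((bcEquiv (Red.geomPt s) X' Z).symm x ≫ z) =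
          x ≫ (Over.pullback (Red.geomPt s)).map z := by
        change bcEquiv _ X' G _ = _
        rw [bcEquiv_comp, Equiv.apply_symm_apply]
      have e2 : bcMulEquiv (Red.geomPt s) X' G ((bcEquiv (Red.geomPt s) X' G).symm (h ≫ j)) = h ≫ j :=
        Equiv.apply_symm_apply _ _
      rw [e1, e2] at h2
      exact h2)
    have h3 : (Over.pullback (Red.geomPt s)).map z' = (a ≫ c) ≫ (Over.pullback (Red.geomPt s)).map f := by
      rw [← cancel_mono ((Over.pullback (Red.geomPt s)).map n), ← Functor.map_comp, hz', Category.assoc,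
        ← Functor.map_comp, hf, ← ha, Category.assoc]
    refine ⟨Limits.pullback.fst H.hom (Red.geomPt s) ((a ≫ c).left p'), ?_⟩
    have e3 : Limits.pullback.fst Z.hom (Red.geomPt s) ≫ z'.left =
        ((Over.pullback (Red.geomPt s)).map z').left ≫ Limits.pullback.fst N.hom (Red.geomPt s) :=
      (Limits.pullback.lift_fst _ _ _).symm
    have e4 : Limits.pullback.fst H.hom (Red.geomPt s) ≫ f.left =
        ((Over.pullback (Red.geomPt s)).map f).left ≫ Limits.pullback.fst N.hom (Red.geomPt s) :=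
      (Limits.pullback.lift_fst _ _ _).symm
    have e5 : ((a ≫ c).left ≫ Limits.pullback.fst H.hom (Red.geomPt s)) ≫ f.left =
        Limits.pullback.fst Z.hom (Red.geomPt s) ≫ z'.left := by
      rw [e3, h3, Category.assoc]
      exact congrArg ((a ≫ c).left ≫ ·) e4
    rw [← hp']
    exact congrArg (fun φ : Limits.pullback Z.hom (Red.geomPt s) ⟶ N.left => φ p') e5
  refine ⟨Over.homMk (IsOpenImmersion.lift f.left z'.left key) ?_, ?_⟩
  · rw [← Over.w f, IsOpenImmersion.lift_fac_assoc, Over.w]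
  · rw [← hz', ← hf, ← Category.assoc]
    congr 1
    apply Over.OverMorphism.ext
    exact IsOpenImmersion.lift_fac _ _ _

end K16.CentralSub
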