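import Groth.Agent.SGA3x.K16.NormOpen
import Groth.Agent.SGA3x.K16.NilRank
import Groth.Agent.SGA3x.K20.GeomIrr
import Groth.Agent.Sga3.H832.Asm4144

/-!
# The normalizer of a smooth subgroup whose geometric fibres contain Cartan subgroups
-/

set_option autoImplicit false
universe u
open CategoryTheory MonoidalCategory CartesianMonoidalCategory MonObj GrpObj AlgebraicGeometry

namespace K16.NormMain

open Groth.Agent Groth.Agent.Sga3B CentRep BcPts

variable {S : Scheme.{u}}

theorem isMonHom_of_comp {𝒞 : Type*} [Category 𝒞] [CartesianMonoidalCategory 𝒞] {A B C : 𝒞} [GrpObj A] [GrpObj B]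
    [GrpObj C] (f : A ⟶ B) (g : B ⟶ C) [IsMonHom g] [Mono g] [IsMonHom (f ≫ g)] : IsMonHom f :=
  InfConjFam.isMonHom_of_mul f fun T x y => by
    rw [← cancel_mono g, MonObj.mul_comp (x ≫ f) (y ≫ f) g, Category.assoc, Category.assoc, Category.assoc]
    exact MonObj.mul_comp x y (f ≫ g)

theorem mem_normPts_bc {S' : Scheme.{u}} (f : S' ⟶ S) {G H : Over S} [GrpObj G] [GrpObj H] (i : H ⟶ G) [IsMonHom i]
    {T : Over S'} (g : T ⟶ Red.bc f G) (hg : (bcEquiv f T G).symm g ∈ normPts i _) :
    g ∈ normPts ((Over.pullback f).map i) T := by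
  rw [mem_normPts] at hg ⊢
  intro T' x h
  obtain ⟨⟨a, ha⟩, ⟨b, hb⟩⟩ := hg ((Over.map f).obj T') ((Over.map f).map x) ((bcEquiv f T' H).symm h)
  have e1 : bcMulEquiv f T' G ((Over.map f).map x ≫ (bcEquiv f T G).symm g) = x ≫ g := by
    change bcEquiv f T' G _ = _
    rw [comp_bcEquiv, Equiv.apply_symm_apply]
  have e2 : bcMulEquiv f T' G ((bcEquiv f T' H).symm h ≫ i) = h ≫ (Over.pullback f).map i := by
    change bcEquiv f T' G _ = _
    rw [bcEquiv_comp, Equiv.apply_symm_apply]
  refine ⟨⟨bcEquiv f T' H a, ?_⟩, ⟨bcEquiv f T' H b, ?_⟩⟩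
  · have h1 := congrArg (bcMulEquiv f T' G) ha
    rw [map_mul, map_mul, map_inv, e1, e2] at h1
    rw [h1, ← bcEquiv_comp]
    rfl
  · have h1 := congrArg (bcMulEquiv f T' G) hb
    rw [map_mul, map_mul, map_inv, e1, e2] at h1
    rw [h1, ← bcEquiv_comp]
    rfl

/-- over an algebraically closed field -/
theorem smooth_field {K : Type u} [Field K] [IsAlgClosed K] {G H C N : Over (Spec (CommRingCat.of K))} [GrpObj G]
    [GrpObj H] [GrpObj C] (i : H ⟶ G) [IsMonHom i] [Mono i] [Smooth G.hom] [IsSeparated G.hom] [Smooth H.hom]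
    (c : C ⟶ H) (hC : SGA3x.IsCartanOver K (c ≫ i))
    [LocallyOfFiniteType N.hom] (n : N ⟶ G) [Mono n] (f : H ⟶ N) (hf : f ≫ n = i)
    (hN : ∀ (T : Over (Spec (CommRingCat.of K))) (a : T ⟶ N), a ≫ n ∈ normPts i T) : Smooth f.left := by
  obtain ⟨h1, h2, T, _, j, hj, hc⟩ := hC
  have hj1 := hj.1
  obtain ⟨t, ht⟩ := (hc.2.2 T j).2 (fun X' x h => by
    rw [← MonObj.mul_comp, ← MonObj.mul_comp]
    congr 1
    exact MaxTorNear900.mul_comm_of_isTorus hj.2.2.1 _ _ _)
  have hs : IsSeparated H.hom := by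
    have : Mono i.left := inferInstanceAs (Mono ((Over.forget _).map i))
    rw [← Over.w i]
    infer_instance
  have hq : IsMonHom ((t ≫ c) ≫ i) := by
    rw [Category.assoc, ht]
    exact hj1
  have hq2 : IsMonHom (t ≫ c) := isMonHom_of_comp (t ≫ c) i
  obtain ⟨r, hM⟩ := TorusAlgClosed.exists_isSplitTorusWith hj.2.2.1
  refine NormOpen.smooth_toNormalizer i (t ≫ c) (fun x => TorusAlgClosed.isSplitTorusWith_bc x hM) c
    (fun X g hg => ?_) n f hf hN
  refine (hc.2.2 X g).2 fun X' x h => ?_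
  rw [← ht, ← Category.assoc t c i]
  exact (mem_centPts _).1 hg X' x h

theorem geomPt_closedPoint (s : S) :
    (Red.geomPt s) (IsLocalRing.closedPoint (AlgebraicClosure (S.residueField s))) = s := by
  have h : (Spec.map (CommRingCat.ofHom (algebraMap (S.residueField s)
      (AlgebraicClosure (S.residueField s)))))
      (IsLocalRing.closedPoint (AlgebraicClosure (S.residueField s))) =
      IsLocalRing.closedPoint (S.residueField s) := Subsingleton.elim _ _
  rw [Scheme.Hom.comp_apply, h]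
  exact S.fromSpecResidueField_apply s _

/-- The main theorem: the normalizer is representable and `H` is open in it. -/
theorem main {S : Scheme.{u}} {G : Over S} [GrpObj G]
    [Smooth G.hom] [QuasiCompact G.hom] (hconn : ∀ s : S, _root_.IsConnected (G.hom.base ⁻¹' {s}))
    {H : Over S} [GrpObj H] [Smooth H.hom] (i : H ⟶ G) [IsMonHom i] [Mono i]
    (hHconn : ∀ s : S, ConnectedSpace ↥(Red.geomFibre s H).left)
    (hHC : ∀ s : S, ∃ (C' : Over (Spec (CommRingCat.of (AlgebraicClosure (S.residueField s))))) (_ : GrpObj C')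
      (c' : C' ⟶ Red.geomFibre s H), SGA3x.IsCartanOver _ (c' ≫ (Over.pullback (Red.geomPt s)).map i)) :
    ∃ (N : Over S) (_ : GrpObj N) (n : N ⟶ G) (f : H ⟶ N), Red.IsNormalizerOf i n ∧ IsClosedImmersion n.left ∧
      QuasiCompact N.hom ∧ LocallyOfFinitePresentation N.hom ∧ f ≫ n = i ∧ IsOpenImmersion f.left := by
  have hsep : IsSeparated G.hom := Sga3.H832.Asm4144.isSeparated_of_connected G hconn
  have hirr : GeometricallyIrreducible H.hom := K20.GeomIrr.geomIrr H hHconn
  obtain ⟨N, _, n, hN, hn, hlfp⟩ := NormRep.exists_normalizer i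
  have hn1 := hn.1
  have hn2 := hn.2.1
  obtain ⟨f, hf⟩ := (hn.2.2 H i).2 (fun X' x h => by
    refine ⟨⟨x * h * x⁻¹, ?_⟩, ⟨x⁻¹ * h * x, ?_⟩⟩
    · rw [MonObj.mul_comp, MonObj.mul_comp, GrpObj.inv_comp]
    · rw [MonObj.mul_comp, MonObj.mul_comp, GrpObj.inv_comp])
  have hqc : QuasiCompact N.hom := by
    rw [← Over.w n]
    infer_instance
  have hNlfp : LocallyOfFinitePresentation N.hom := by
    rw [← Over.w n]
    infer_instance
  refine ⟨N, inferInstance, n, f, hn, hN, hqc, hNlfp, hf, ?_⟩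
  have hfm : Mono f := by
    have : Mono (f ≫ n) := by rw [hf]; infer_instance
    exact mono_of_mono f n
  refine Sga3.H799.FibCrit.isOpenImmersion_of_points f fun s => ⟨_, inferInstance, Red.geomPt s, ?_, ?_⟩
  · exact geomPt_closedPoint s
  obtain ⟨C, _, c, hC⟩ := hHC s
  have h1 : Smooth (Red.bc (Red.geomPt s) G).hom := inferInstanceAs (Smooth (Limits.pullback.snd _ _))
  have h2 : Smooth (Red.bc (Red.geomPt s) H).hom := inferInstanceAs (Smooth (Limits.pullback.snd _ _))
  have h3 : IsSeparated (Red.bc (Red.geomPt s) G).hom := inferInstanceAs (IsSeparated (Limits.pullback.snd _ _))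
  have h4 : LocallyOfFiniteType (Red.bc (Red.geomPt s) N).hom :=
    inferInstanceAs (LocallyOfFiniteType (Limits.pullback.snd _ _))
  have h5 : Smooth ((Over.pullback (Red.geomPt s)).map f).left :=
    smooth_field (G := Red.bc (Red.geomPt s) G) (H := Red.bc (Red.geomPt s) H) (N := Red.bc (Red.geomPt s) N)
      ((Over.pullback (Red.geomPt s)).map i) c hC ((Over.pullback (Red.geomPt s)).map n)
      ((Over.pullback (Red.geomPt s)).map f) (by rw [← Functor.map_comp, hf]) (fun T a => by
        refine mem_normPts_bc _ _ _ ?_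
        rw [mem_normPts]
        exact (hn.2.2 _ _).1 ⟨(bcEquiv (Red.geomPt s) T N).symm a, by rw [bcEquiv_symm_comp]⟩)
  infer_instance

end K16.NormMain
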