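import Groth.Agent.S8433
import Groth.Agent.Sga3.H802.MaxLift
import Groth.Agent.Sga3.H798.CentSep
import Groth.Agent.Sga3.H799.FibCrit
import Groth.Agent.Sga3.H799.Bc
import Groth.Agent.Sga3.H830.TorBc
import Groth.Agent.Sga3.H831.CartFacts
import Groth.Agent.Sga3.H784.NAMain
import Groth.Agent.Sga3.H795.DisjGrp
import Groth.Agent.Sga3B.SplitBc264
import Groth.Agent.SGA3x.K16.NormMain
import Groth.Agent.SGA3x.K16.PreimMain

/-!
# The maximal central torus of a smooth group over an artinian base
-/

set_option autoImplicit false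
universe u
open CategoryTheory MonoidalCategory CartesianMonoidalCategory MonObj GrpObj AlgebraicGeometry Limits

namespace K16.CentTor

open Groth.Agent Groth.Agent.Sga3B Groth.Agent.Sga3B.RedIso Groth.Agent.Sga3B.AlgBc
open Groth.Agent.Sga3.H802.SepArt Groth.Agent.Sga3.H802.LiftTor Groth.Agent.Sga3.H802.MaxLift
open Groth.Agent.Books.AffBridge BcPts

theorem comm_bc {S S' : Scheme.{u}} (f : S' ⟶ S) (Z : Over S) [GrpObj Z]
    (hc : ∀ (X : Over S) (g h : X ⟶ Z), g * h = h * g) (X : Over S') (g h : X ⟶ Red.bc f Z) : g * h = h * g := by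
  apply (bcMulEquiv f X Z).symm.injective
  rw [map_mul, map_mul, hc]

/-- Commutative algebraic groups over a field have a maximal torus. -/
theorem exists_maxTor_of_comm {k : Type u} [Field k] (Z : Over (Spec (CommRingCat.of k))) [GrpObj Z]
    [LocallyOfFiniteType Z.hom] [QuasiCompact Z.hom]
    (hc : ∀ (X : Over (Spec (CommRingCat.of k))) (g h : X ⟶ Z), g * h = h * g) :
    ∃ (T : Over (Spec (CommRingCat.of k))) (_ : GrpObj T) (i : T ⟶ Z), Red.IsMaximalTorus i := by
  have hsep : IsSeparated Z.hom := isSeparated Z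
  have hlfp : LocallyOfFinitePresentation Z.hom := LocallyOfFinitePresentation.iff_locallyOfFiniteType.2 inferInstance
  let f : Spec (CommRingCat.of (AlgebraicClosure k)) ⟶ Spec (CommRingCat.of k) :=
    Spec.map (CommRingCat.ofHom (algebraMap k (AlgebraicClosure k)))
  have hf1 : Flat f := inferInstance
  have hf2 : Surjective f := inferInstance
  have hlft : LocallyOfFiniteType (Red.bc f Z).hom := inferInstanceAs (LocallyOfFiniteType (pullback.snd _ _))
  obtain ⟨T', _, i', hi'⟩ := Sga3.H784.NAMain.exists_isMaximalTorus (Red.bc f Z)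
  have hi1 := hi'.1
  have hqc : ∀ V : (Spec (CommRingCat.of k)).Opens, IsAffineOpen V →
      ∃ W : (Spec (CommRingCat.of (AlgebraicClosure k))).Opens,
        IsCompact (W : Set (Spec (CommRingCat.of (AlgebraicClosure k)))) ∧
          f.base '' (W : Set _) = (V : Set (Spec (CommRingCat.of k))) := by
    intro V hV
    refine ⟨f ⁻¹ᵁ V, ?_, ?_⟩
    · exact QuasiCompact.isCompact_preimage (f := f) _ V.2 hV.isCompact
    · exact Set.image_preimage_eq _ f.surjective
  obtain ⟨T, i1, i, hi, -⟩ := S8433.result (Spec (CommRingCat.of k)) Z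
    ⟨_, f, hf1, hf2, hqc, T', _, i', hi', fun X t g => comm_bc f Z hc _ _ _⟩
  exact ⟨T, i1, i, hi⟩

section

variable {A : Type u} [CommRing A] [IsLocalRing A] [IsArtinianRing A]
  {H Z : Over (Spec (CommRingCat.of A))} [GrpObj H] [GrpObj Z]

/-- points of the centre commute with each other -/
theorem comm_of_centre {S : Scheme.{u}} {H Z : Over S} [GrpObj H] [GrpObj Z] {z : Z ⟶ H}
    (hz : Red.IsCentralizerOf (𝟙 H) z) (X : Over S) (g h : X ⟶ Z) : g * h = h * g := by
  have h1 := hz.1
  have h2 := hz.2.1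
  rw [← cancel_mono z, MonObj.mul_comp, MonObj.mul_comp]
  have h3 := (hz.2.2 X (g ≫ z)).1 ⟨g, rfl⟩ X (𝟙 _) (h ≫ z)
  rwa [Category.id_comp, Category.comp_id] at h3

/-- **The centre of a smooth algebraic group over a local artinian ring has a maximal torus.** -/
theorem exists_maxTor_centre_local [Smooth H.hom] {z : Z ⟶ H}
    (hz : Red.IsCentralizerOf (𝟙 H) z) [LocallyOfFiniteType Z.hom] [QuasiCompact Z.hom] :
    ∃ (T : Over (Spec (CommRingCat.of A))) (_ : GrpObj T) (t : T ⟶ Z), Red.IsMaximalTorus t := by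
  have hz1 := hz.1
  have hz2 := hz.2.1
  have hsep : IsSeparated H.hom := isSeparated H
  have : LocallyOfFiniteType (Red.bc (res A) Z).hom := inferInstanceAs (LocallyOfFiniteType (pullback.snd _ _))
  have : QuasiCompact (Red.bc (res A) Z).hom := inferInstanceAs (QuasiCompact (pullback.snd _ _))
  obtain ⟨T₀, _, t₀, ht₀⟩ := exists_maxTor_of_comm (Red.bc (res A) Z) (comm_bc (res A) Z (comm_of_centre hz))
  have h01 := ht₀.1
  have h02 := ht₀.2.1
  obtain ⟨D, _, _, hD, ⟨ε⟩⟩ := Sga3.H802.TorAlg.exists_torus_lift T₀ ht₀.2.2.1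
  obtain ⟨u, hu, hu'⟩ := exists_hom_lift hD ((und ε).hom ≫ t₀ ≫ (Over.pullback (res A)).map z)
  have hTs : Smooth (SpecOver A D).hom := TorusAlgClosed.smooth_of_isTorus hD
  obtain ⟨C, _, c, hc, hcc, hcs, -⟩ := Sga3.H798.CentSep.exists_smooth_centralizer (G := H) u hD
  have hc1 := hc.1
  have hc2 := hc.2.1
  -- the centralizer of `u` is everything
  have hiso : IsIso c := by
    refine Sga3.H799.FibCrit.isIso_of_points c fun s => ⟨IsLocalRing.ResidueField A, inferInstance, res A,
      Subsingleton.elim _ _, ?_⟩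
    have hcb := SplitBc264.isCentralizerOf_bc (res A) hc
    have hzb := SplitBc264.isCentralizerOf_bc (res A) hz
    rw [hu'] at hcb
    obtain ⟨w, hw⟩ := (hcb.2.2 _ (𝟙 _)).2 (fun X' x h => by
      have h3 := (hzb.2.2 X' (h ≫ (und ε).hom ≫ t₀ ≫ (Over.pullback (res A)).map z)).1
        ⟨h ≫ (und ε).hom ≫ t₀, by simp only [Category.assoc]⟩ X' (𝟙 _) (x ≫ 𝟙 _)
      rw [Category.id_comp] at h3
      have e : (x ≫ 𝟙 _) ≫ (Over.pullback (res A)).map (𝟙 H) = x ≫ 𝟙 _ := by
        rw [CategoryTheory.Functor.map_id, Category.comp_id]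
      rw [e] at h3
      exact h3.symm)
    have h1 : IsSplitEpi ((Over.pullback (res A)).map c) := IsSplitEpi.mk' ⟨w, hw⟩
    exact isIso_of_mono_of_isSplitEpi _
  -- so `u` is central
  obtain ⟨t, ht⟩ := (hz.2.2 _ u).2 (fun X' x h => by
    have h3 := (hc.2.2 X' h).1 ⟨h ≫ inv c, by simp⟩ X' (𝟙 _) x
    rw [Category.id_comp] at h3
    rw [Category.comp_id]
    exact h3.symm)
  have hlft : LocallyOfFiniteType u.left := by
    have h2 : LocallyOfFiniteType (u.left ≫ H.hom) := by rw [Over.w]; infer_instance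
    exact locallyOfFiniteType_of_comp u.left H.hom
  have hmono : Mono u := mono_of_res u (by rw [hu']; infer_instance)
  have hm1 : Mono t := by
    have : Mono (t ≫ z) := by rw [ht]; exact hmono
    exact mono_of_mono t z
  have hm2 : IsMonHom (t ≫ z) := by rw [ht]; exact hu
  have hm3 : IsMonHom t := NormMain.isMonHom_of_comp t z
  have e2 : (Over.pullback (res A)).map t = (und ε).hom ≫ t₀ := by
    rw [← cancel_mono ((Over.pullback (res A)).map z), ← Functor.map_comp, ht, hu', Category.assoc]
  have h3 : Red.IsMaximalTorus ((Over.pullback (res A)).map t) := by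
    refine isMaximalTorus_of_arrow (i := t₀) ε.symm (Iso.refl _) ?_ ht₀
    rw [e2, BcNat.und_symm, Iso.inv_hom_id_assoc]
    exact Category.comp_id _
  exact ⟨SpecOver A D, inferInstance, t, isMaximalTorus_of_bc t hD h3.2.2.2⟩

end

/-- localizations of artinian rings are etale -/
theorem etale_localization {A : Type u} [CommRing A] [IsArtinianRing A] (p : Ideal A) [p.IsPrime] :
    Etale (Spec.map (CommRingCat.ofHom (algebraMap A (Localization.AtPrime p)))) := by
  rw [HasRingHomProperty.Spec_iff (P := @Etale)]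
  rw [CommRingCat.hom_ofHom, RingHom.etale_algebraMap]
  have h1 : Algebra.FormallyEtale A (Localization.AtPrime p) := Algebra.FormallyEtale.of_isLocalization p.primeCompl
  have h2 : Algebra.FinitePresentation A (Localization.AtPrime p) :=
    Algebra.FinitePresentation.of_surjective (f := Algebra.ofId A (Localization.AtPrime p))
      (IsArtinianRing.localization_surjective p.primeCompl _) (IsNoetherian.noetherian _)
  exact ⟨h1, h2⟩

variable {A : Type u} [CommRing A] [IsArtinianRing A] {H Z : Over (Spec (CommRingCat.of A))} [GrpObj H] [GrpObj Z]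

/-- **The centre of a smooth algebraic group over an artinian ring has a maximal torus.** -/
theorem exists_maxTor_centre [Smooth H.hom] {z : Z ⟶ H}
    (hz : Red.IsCentralizerOf (𝟙 H) z) [LocallyOfFiniteType Z.hom] [QuasiCompact Z.hom] [QuasiSeparated Z.hom] :
    ∃ (T : Over (Spec (CommRingCat.of A))) (_ : GrpObj T) (t : T ⟶ Z), Red.IsMaximalTorus t := by
  have hlfp : LocallyOfFinitePresentation Z.hom := LocallyOfFinitePresentation.iff_locallyOfFiniteType.2 inferInstance
  obtain ⟨S', f, hf1, hf2, T', _, i', hi'⟩ := Sga3.H795.DisjGrp.hasMaxTorusEtaleLocally_of_forall Z (fun s => by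
    let f : Spec (CommRingCat.of (Localization.AtPrime s.asIdeal)) ⟶ Spec (CommRingCat.of A) :=
      Spec.map (CommRingCat.ofHom (algebraMap A (Localization.AtPrime s.asIdeal)))
    have h1 : Smooth (Red.bc f H).hom := inferInstanceAs (Smooth (pullback.snd _ _))
    have h2 : LocallyOfFiniteType (Red.bc f Z).hom := inferInstanceAs (LocallyOfFiniteType (pullback.snd _ _))
    have h3 : QuasiCompact (Red.bc f Z).hom := inferInstanceAs (QuasiCompact (pullback.snd _ _))
    have hzb := SplitBc264.isCentralizerOf_bc f hz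
    rw [CategoryTheory.Functor.map_id] at hzb
    refine ⟨_, f, etale_localization _, ⟨IsLocalRing.closedPoint _, ?_⟩,
      exists_maxTor_centre_local (A := Localization.AtPrime s.asIdeal) hzb⟩
    apply PrimeSpectrum.ext
    exact IsLocalization.AtPrime.under_maximalIdeal _ _)
  obtain ⟨T, i1, i, hi, -⟩ := S8433.result (Spec (CommRingCat.of A)) Z
    ⟨S', f, inferInstance, hf2, AlgBc.qc_cover_of_isOpenMap f f.isOpenMap, T', _, i', hi',
      fun X t g => comm_bc f Z (comm_of_centre hz) _ _ _⟩
  exact ⟨T, i1, i, hi⟩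

/-- **Fibrewise centralizers of tori are centralizers of tori** over an artinian base. -/
theorem main {G : Over (Spec (CommRingCat.of A))} [GrpObj G] [Smooth G.hom] [QuasiCompact G.hom]
    (hconn : ∀ s : ↥(Spec (CommRingCat.of A)), _root_.IsConnected (G.hom.base ⁻¹' {s})) [Smooth H.hom] (i : H ⟶ G)
    [IsMonHom i] [Mono i]
    (hH : ∀ s : ↥(Spec (CommRingCat.of A)),
      ∃ (T' : Over (Spec (CommRingCat.of (AlgebraicClosure ((Spec (CommRingCat.of A)).residueField s)))))
      (_ : GrpObj T') (j' : T' ⟶ Red.geomFibre s G) (_ : IsMonHom j') (_ : Mono j'), Red.IsTorus T' ∧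
      Red.IsCentralizerOf j' ((Over.pullback (Red.geomPt s)).map i)) :
    (∃ (T : Over (Spec (CommRingCat.of A))) (_ : GrpObj T) (j : T ⟶ G) (_ : IsMonHom j) (_ : Mono j), Red.IsTorus T ∧
      Red.IsCentralizerOf j i) ∧ IsClosedImmersion i.left := by
  have hGirr : GeometricallyIrreducible G.hom := by
    have : GrpObj (Over.mk G.hom) := inferInstanceAs (GrpObj G)
    exact Sga3C.GrpIrr.geometricallyIrreducible_of_connected_fibres G.hom hconn
  have hGsep : IsSeparated G.hom := Sga3C.GrpSep.isSeparated G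
  have hHirr : GeometricallyIrreducible H.hom := by
    refine K20.GeomIrr.geomIrr H fun s => ?_
    have h1 : Smooth (Red.geomFibre s G).hom := inferInstanceAs (Smooth (pullback.snd _ _))
    have h2 : QuasiCompact (Red.geomFibre s G).hom := inferInstanceAs (QuasiCompact (pullback.snd _ _))
    have h3 := PreimMain.connectedSpace_geomFibre (X := G) hconn s
    obtain ⟨T', _, j', _, _, hT', hc⟩ := hH s
    exact Sga3.H831.CartFacts.connectedSpace_centralizer j' hT' hc
  have hHsep : IsSeparated H.hom := Sga3C.GrpSep.isSeparated H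
  have hHqc : QuasiCompact H.hom := Sga3C.GrpSep.quasiCompact H
  obtain ⟨Z, _, z, hzi, hzc, hzf⟩ := Sga3.H798.CentSep.exists_centralizer (G := H) (𝟙 H)
  have hz : Red.IsCentralizerOf (𝟙 H) z := hzc
  have hz1 := hz.1
  have hz2 := hz.2.1
  have hZ1 : LocallyOfFiniteType Z.hom := by rw [← Over.w z]; infer_instance
  have hZ2 : QuasiCompact Z.hom := by rw [← Over.w z]; infer_instance
  have hZ3 : QuasiSeparated Z.hom := by rw [← Over.w z]; infer_instance
  obtain ⟨T, _, t, ht⟩ := exists_maxTor_centre hz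
  have ht1 := ht.1
  have ht2 := ht.2.1
  obtain ⟨C, _, c, hc, hcc, hcs, -⟩ := Sga3.H798.CentSep.exists_smooth_centralizer (G := G) (t ≫ z ≫ i) ht.2.2.1
  have hc1 := hc.1
  have hc2 := hc.2.1
  obtain ⟨v, hv⟩ := (hc.2.2 _ i).2 (fun X' x h => by
    have h3 := (hz.2.2 X' (h ≫ t ≫ z)).1 ⟨h ≫ t, by simp only [Category.assoc]⟩ X' (𝟙 _) x
    rw [Category.id_comp, Category.comp_id] at h3
    have h4 := congrArg (· ≫ i) h3
    simp only [MonObj.mul_comp, Category.assoc] at h4
    exact h4.symm)
  have hvm : Mono v := by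
    have : Mono (v ≫ c) := by rw [hv]; infer_instance
    exact mono_of_mono v c
  have hviso : IsIso v := by
    refine Sga3.H799.FibCrit.isIso_of_points v fun s => ⟨AlgebraicClosure _, inferInstance, Red.geomPt s,
      NormMain.geomPt_closedPoint s, ?_⟩
    obtain ⟨T', _, j', hj1, hj2, hT', hc'⟩ := hH s
    have hcb := SplitBc264.isCentralizerOf_bc (Red.geomPt s) hc
    have hzb := SplitBc264.isCentralizerOf_bc (Red.geomPt s) hz
    have hlft : LocallyOfFiniteType (Red.bc (Red.geomPt s) Z).hom :=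
      inferInstanceAs (LocallyOfFiniteType (pullback.snd _ _))
    have hts := Sga3.H830.TorBc.isMaximalTorus_bc (Red.geomPt s) ht
    -- `T'` is in the centre of the fibre of `H`
    obtain ⟨a, ha⟩ := (hc'.2.2 _ j').2 (fun X' x h => by
      rw [← MonObj.mul_comp, ← MonObj.mul_comp, MaxTorNear900.mul_comm_of_isTorus hT'])
    have ha1 : IsMonHom (a ≫ (Over.pullback (Red.geomPt s)).map i) := by rw [ha]; exact hj1
    have ha2 : IsMonHom a := NormMain.isMonHom_of_comp a ((Over.pullback (Red.geomPt s)).map i)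
    obtain ⟨b, hb⟩ := (hzb.2.2 _ a).2 (fun X' x h => by
      rw [← cancel_mono ((Over.pullback (Red.geomPt s)).map i), MonObj.mul_comp, MonObj.mul_comp]
      have h3 := (hc'.2.2 X' (h ≫ (Over.pullback (Red.geomPt s)).map i)).1 ⟨h, rfl⟩ X' (𝟙 _) x
      rw [Category.id_comp] at h3
      have e : h ≫ (Over.pullback (Red.geomPt s)).map (𝟙 H) = h := by
        rw [CategoryTheory.Functor.map_id, Category.comp_id]
      rw [e, Category.assoc, ha]
      exact h3.symm)
    have hb1 : IsMonHom (b ≫ (Over.pullback (Red.geomPt s)).map z) := by rw [hb]; exact ha2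
    have hb2 : IsMonHom b := NormMain.isMonHom_of_comp b ((Over.pullback (Red.geomPt s)).map z)
    obtain ⟨d, hd⟩ := Sga3.H784.NAMain.exists_factor_of_commute _ hts b hT'
      fun _ _ => comm_bc _ Z (comm_of_centre hz) _ _ _
    -- points commuting with the fibre of `T` commute with `T'`
    obtain ⟨w, hw⟩ := (hc'.2.2 _ ((Over.pullback (Red.geomPt s)).map c)).2 (fun X' x h => by
      have h3 := (hcb.2.2 _ (x ≫ (Over.pullback (Red.geomPt s)).map c)).1 ⟨x, rfl⟩ X' (𝟙 _) (h ≫ d)
      rw [Category.id_comp] at h3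
      have e : (h ≫ d) ≫ (Over.pullback (Red.geomPt s)).map (t ≫ z ≫ i) = h ≫ j' := by
        rw [Functor.map_comp, Functor.map_comp, Category.assoc, reassoc_of% hd, reassoc_of% hb, ha]
      rw [e] at h3
      exact h3)
    have h1 : w ≫ (Over.pullback (Red.geomPt s)).map v = 𝟙 _ := by
      rw [← cancel_mono ((Over.pullback (Red.geomPt s)).map c), Category.assoc, ← Functor.map_comp, hv, hw,
        Category.id_comp]
    have h2 : IsSplitEpi ((Over.pullback (Red.geomPt s)).map v) := IsSplitEpi.mk' ⟨w, h1⟩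
    exact isIso_of_mono_of_isSplitEpi _
  refine ⟨⟨T, inferInstance, t ≫ z ≫ i, inferInstance, inferInstance, ht.2.2.1, inferInstance, inferInstance,
    fun X g => ?_⟩, ?_⟩
  · rw [← hc.2.2 X g]
    constructor
    · rintro ⟨y, rfl⟩
      exact ⟨y ≫ v, by rw [Category.assoc, hv]⟩
    · rintro ⟨y, rfl⟩
      exact ⟨y ≫ inv v, by rw [← hv, Category.assoc, IsIso.inv_hom_id_assoc]⟩
  · have h1 : IsIso v.left := inferInstanceAs (IsIso ((Over.forget _).map v))
    have h2 : IsClosedImmersion c.left := hcc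
    have h3 : IsClosedImmersion (v.left ≫ c.left) := inferInstance
    have h4 : v.left ≫ c.left = i.left := congrArg CommaMorphism.left hv
    rwa [← h4]

end K16.CentTor
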