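import Groth.Agent.SGA3x.K16.FixFam
import Groth.Agent.Sga3B.LocalLift
import Groth.Agent.SGA3x.K21.ClosedCond
import Groth.Prelude.Def_SGA3x

/-!
# Smoothness of the fixed locus of a group of multiplicative type
-/

set_option autoImplicit false
universe u
open CategoryTheory MonoidalCategory CartesianMonoidalCategory MonObj GrpObj AlgebraicGeometry Limits

namespace K16.FixSmooth

open Groth.Agent Groth.Agent.Sga3B Groth.Agent.Sga3B.InfConj Groth.Agent.Sga3B.InfConjFam BcPts

variable {S : Scheme.{u}} {G X : Over S} [GrpObj G] (a : AlgGrp.Action G X)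

/-- The fixed locus of a group of multiplicative type acting on a smooth separated scheme is smooth, as soon as it is
locally of finite presentation. -/
theorem smooth_fixed (hG : SGA3x.IsMultTypeFT G) [Smooth X.hom] [IsSeparated X.hom] {F : Scheme.{u}}
    (f : F ⟶ X.left) [Mono f] [LocallyOfFinitePresentation (f ≫ X.hom)]
    (hF : ∀ (T : Over S) (x : T ⟶ X), (∃ y : T.left ⟶ F, y ≫ f = x.left) ↔
        ∀ (T' : Over S) (t : T' ⟶ T) (g : T' ⟶ G), lift g (t ≫ x) ≫ a.act = t ≫ x) :
    Smooth (f ≫ X.hom) := by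
  obtain ⟨S', p, hp, hps, hc, h⟩ := hG
  have hZ : LocallyOfFinitePresentation (Over.mk (f ≫ X.hom) : Over S).hom := ‹_›
  refine LocalLift.smooth_of_local_lift_fpqc (Over.mk (f ≫ X.hom)) p hc fun s' => ?_
  obtain ⟨U, hU, M, _, -, ⟨e⟩⟩ := h s'
  refine ⟨U, hU, ?_⟩
  intro B _ _ I hI α β hβ
  let x : Spec (CommRingCat.of B) ⟶ S := β ≫ U.ι ≫ p
  let e' : Grp.mk (Red.bc x G) ≅ Grp.mk (Red.DS (Spec (CommRingCat.of B)) M) :=
    (BcIso.bcCompIso β (U.ι ≫ p) G).symm.symm ≪≫ BcIso.bcMapIso β e ≪≫ TorusAlgClosed.dsBcIso β M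
  let α₀ : Over.mk (Spec.map (CommRingCat.ofHom (Ideal.Quotient.mk I)) ≫ x) ⟶ X :=
    Over.homMk (α ≫ f) (by
      rw [Category.assoc]
      exact hβ.symm)
  obtain ⟨l, hl1, hl2⟩ := Flat2H.FSSmoothHom.isFormallySmoothHom_of_smooth X.hom B I (by rw [pow_two, hI])
    α₀.left x (by rw [Over.w]; rfl)
  let y : Over.mk x ⟶ X := Over.homMk l hl2
  have hy : redMap x I ≫ y = α₀ := by
    apply Over.OverMorphism.ext
    exact hl1
  obtain ⟨w, hw1, hw2⟩ := FixFam.fixLift_family a I hI x e' y fun T t g => by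
    rw [hy]
    exact (hF _ α₀).1 ⟨α, rfl⟩ T t g
  obtain ⟨γ, hγ⟩ := (hF _ w).2 hw2
  refine ⟨γ, ?_, ?_⟩
  · rw [← cancel_mono f, Category.assoc, hγ]
    have h1 := congrArg CommaMorphism.left (hw1.trans hy)
    exact h1
  · change γ ≫ f ≫ X.hom = x
    rw [← Category.assoc, hγ]
    exact Over.w w

/-- The fixed locus of a group of multiplicative type acting on a separated scheme of finite type is of finite
presentation in the scheme. -/
theorem locallyOfFinitePresentation_fixed (hG : SGA3x.IsMultTypeFT G) [LocallyOfFiniteType X.hom]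
    [IsSeparated X.hom] {F : Scheme.{u}} (f : F ⟶ X.left) [Mono f]
    (hF : ∀ (T : Over S) (x : T ⟶ X), (∃ y : T.left ⟶ F, y ≫ f = x.left) ↔
        ∀ (T' : Over S) (t : T' ⟶ T) (g : T' ⟶ G), lift g (t ≫ x) ≫ a.act = t ≫ x) :
    LocallyOfFinitePresentation f := by
  let d : X ⟶ X ⊗ X := lift (𝟙 X) (𝟙 X)
  have hd : d.left = pullback.diagonal X.hom := rfl
  have hd1 : IsClosedImmersion d.left := by
    rw [hd]
    exact IsSeparated.isClosedImmersion_diagonal
  have hd2 : LocallyOfFinitePresentation d.left := by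
    have h1 : d.left ≫ (fst X X).left = 𝟙 _ := by
      rw [← Over.comp_left, lift_fst]
      rfl
    have h2 : LocallyOfFiniteType (fst X X).left := inferInstanceAs (LocallyOfFiniteType (pullback.fst X.hom X.hom))
    have h3 : LocallyOfFinitePresentation (d.left ≫ (fst X X).left) := by
      rw [h1]
      infer_instance
    exact Ega43.FPOfComp.locallyOfFinitePresentation_of_comp d.left (fst X X).left
  obtain ⟨Z, z, hz, huniv, hfp⟩ := K21.ClosedCond.exists_closed_map (X := X) (Q := G)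
    (K21.MultLoc.isMult_of_isMultTypeFT hG) (lift (lift (snd X G) (fst X G) ≫ a.act) (fst X G)) d
  have hzfp := hfp hd2
  have key : ∀ (T : Over S) (x : T ⟶ X), (∃ y : T.left ⟶ F, y ≫ f = x.left) ↔ ∃ y : T ⟶ Z, y ≫ z = x := by
    intro T x
    rw [hF, huniv]
    refine forall_congr' fun T' => forall_congr' fun t => forall_congr' fun g => ?_
    have e : lift (t ≫ x) g ≫ lift (lift (snd X G) (fst X G) ≫ a.act) (fst X G) =
        lift (lift g (t ≫ x) ≫ a.act) (t ≫ x) := by
      apply CartesianMonoidalCategory.hom_ext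
      · rw [Category.assoc, lift_fst, lift_fst, comp_lift_assoc, lift_snd, lift_fst]
      · rw [Category.assoc, lift_snd, lift_snd, lift_fst]
    rw [e]
    constructor
    · intro h
      refine ⟨t ≫ x, ?_⟩
      rw [h]
      apply CartesianMonoidalCategory.hom_ext <;> simp [d]
    · rintro ⟨b, hb⟩
      have h1 := congrArg (fun k => k ≫ fst X X) hb
      have h2 := congrArg (fun k => k ≫ snd X X) hb
      simp only [d, Category.assoc, lift_fst, lift_snd, Category.comp_id] at h1 h2
      rw [← h1, h2]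
  obtain ⟨u, hu⟩ := (key Z z).2 ⟨𝟙 _, Category.id_comp _⟩
  obtain ⟨v, hv⟩ := (key (Over.mk (f ≫ X.hom)) (Over.homMk f rfl)).1 ⟨𝟙 _, Category.id_comp _⟩
  have hv' : v.left ≫ z.left = f := congrArg CommaMorphism.left hv
  have : Mono z.left := inferInstance
  have h1 : v.left ≫ u = 𝟙 _ := by
    rw [← cancel_mono f, Category.assoc, hu, hv', Category.id_comp]
  have h2 : u ≫ v.left = 𝟙 _ := by
    rw [← cancel_mono z.left, Category.assoc, hv', hu, Category.id_comp]
  have h3 : IsIso v.left := ⟨⟨u, h1, h2⟩⟩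
  rw [← hv']
  infer_instance

theorem main (hG : SGA3x.IsMultTypeFT G) [Smooth X.hom] [IsSeparated X.hom] {F : Scheme.{u}}
    (f : F ⟶ X.left) [Mono f]
    (hF : ∀ (T : Over S) (x : T ⟶ X), (∃ y : T.left ⟶ F, y ≫ f = x.left) ↔
        ∀ (T' : Over S) (t : T' ⟶ T) (g : T' ⟶ G), lift g (t ≫ x) ≫ a.act = t ≫ x) :
    Smooth (f ≫ X.hom) := by
  have := locallyOfFinitePresentation_fixed a hG f hF
  exact smooth_fixed a hG f hF

end K16.FixSmooth
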