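import Groth.Agent.SGA3x.K16.NilRank

/-!
# Upper semicontinuity of the nilpotent rank
-/

set_option autoImplicit false
universe u
open CategoryTheory MonoidalCategory CartesianMonoidalCategory MonObj GrpObj AlgebraicGeometry Limits

namespace K16.NilRankOpen

open Groth.Agent Groth.Agent.Sga3B Groth.Agent.Sga3B.RedIso Groth.Agent.Sga3B.BcNat Groth.Agent.Sga3B.ResAlg
  Groth.Agent.Sga3B.AlgBc Groth.Agent.Sga3.H831 Groth.Agent.Sga3.H803 Groth.Agent.Sga3 K16.NilRank

/-- Cartan subgroups exist over an algebraically closed field. -/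
theorem exists_cartan {K : Type u} [Field K] [IsAlgClosed K] (G : Over (Spec (CommRingCat.of K))) [GrpObj G]
    [Smooth G.hom] [IsSeparated G.hom] :
    ∃ (C : Over (Spec (CommRingCat.of K))) (_ : GrpObj C) (c : C ⟶ G), SGA3x.IsCartanOver K c := by
  obtain ⟨T, _, i, hi⟩ := H784.NAMain.exists_isMaximalTorus G
  have h1 := hi.1
  obtain ⟨C, _, c, hc, -⟩ := H798.CentSep.exists_smooth_centralizer i hi.2.2.1
  exact ⟨C, inferInstance, c, hc.1, hc.2.1, T, inferInstance, i, hi, hc⟩

/-- A Cartan subgroup contained in a closed subgroup has smaller dimension. -/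
theorem dim_le {K : Type u} [Field K] [IsAlgClosed K] {G C C' : Over (Spec (CommRingCat.of K))} [GrpObj G]
    [GrpObj C] [GrpObj C'] [Smooth G.hom] [IsSeparated G.hom] (c' : C' ⟶ G) (hc' : SGA3x.IsCartanOver K c')
    (c : C ⟶ G) [IsClosedImmersion c.left] (f : C' ⟶ C) (hf : f ≫ c = c') :
    topologicalKrullDim ↥C'.left ≤ topologicalKrullDim ↥C.left := by
  have h1 := (smooth_of_isCartanOver c' hc').2
  have h2 : IsClosedImmersion (f.left ≫ c.left) := by
    rw [← Over.comp_left, hf]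
    exact h1
  have h3 : IsClosedImmersion f.left := IsClosedImmersion.of_comp f.left c.left
  exact f.left.isClosedEmbedding.isInducing.topologicalKrullDim_le

theorem isOpen_nilRank_le (S : Scheme.{u}) (G : Over S) [GrpObj G] [IsAffineHom G.hom] [Smooth G.hom] (n : ℕ) :
    IsOpen {s : S | ∃ (C' : Over (Spec (CommRingCat.of (AlgebraicClosure (S.residueField s)))))
      (_ : GrpObj C') (c' : C' ⟶ Red.geomFibre s G),
      SGA3x.IsCartanOver (AlgebraicClosure (S.residueField s)) c' ∧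
        topologicalKrullDim ↥C'.left ≤ (n : WithBot ℕ∞)} := by
  rw [isOpen_iff_forall_mem_open]
  rintro s₀ ⟨C₀, _, c₀, hc₀, hd₀⟩
  obtain ⟨hc1, hc2, T₀, _, i₀, hi₀, hcent₀⟩ := id hc₀
  have h1 := hi₀.1
  have h2 := hi₀.2.1
  obtain ⟨r, hr⟩ := TorusAlgClosed.exists_isSplitTorusWith hi₀.2.2.1
  obtain ⟨B, _, v, hv, ⟨x, hx⟩, -, i, hi1, hi2⟩ := H795.LiftTorus.exists_etale_torus G s₀ ⊤ trivial i₀ hr
  subst hx
  have hT : Red.IsTorus (Red.DS (Spec (CommRingCat.of B)) (Fin r → ℤ)) :=
    RG.BrTorus.isTorus_of_isSplitTorusWith ⟨Iso.refl _⟩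
  have haff : IsAffineHom (Red.bc v G).hom := inferInstanceAs (IsAffineHom (pullback.snd G.hom v))
  have hsm : Smooth (Red.bc v G).hom := inferInstanceAs (Smooth (pullback.snd G.hom v))
  obtain ⟨C, _, c, hc, hcl, hCs, -⟩ := H798.CentSep.exists_smooth_centralizer i hT
  have h3 := hc.1
  have h4 := hc.2.1
  -- the fibre at `x`
  have hred : SGA3x.HasRedRank (Red.bc v G) x r :=
    (H795.RankEt.hasRedRank_bc_iff v G x r).2 (H795.RankEt.hasRedRank_of_split i₀ hi₀ hr)
  obtain ⟨T₁, _, i₁, hi₁, hd₁⟩ := hred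
  have haffx : IsAffineHom (Red.geomFibre x (Red.bc v G)).hom :=
    inferInstanceAs (IsAffineHom (pullback.snd (Red.bc v G).hom (Red.geomPt x)))
  have hlftx : LocallyOfFiniteType (Red.geomFibre x (Red.bc v G)).hom :=
    inferInstanceAs (LocallyOfFiniteType (pullback.snd (Red.bc v G).hom (Red.geomPt x)))
  have : IsAffine (Red.geomFibre x (Red.bc v G)).left := MaxTorusCrit.isAffine_left_of_isAffineHom _
  have hsx := TorusAlgClosed.isSplitTorusWith_bc (M := Fin r → ℤ) (Red.geomPt x)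
    (T := Red.DS (Spec (CommRingCat.of B)) (Fin r → ℤ)) ⟨Iso.refl _⟩
  have hmax : Red.IsMaximalTorus ((Over.pullback (Red.geomPt x)).map i) :=
    H795.MaxTorDim.isMaximalTorus_of_dim_le (Red.geomFibre x (Red.bc v G)) i₁ hi₁
      ((Over.pullback (Red.geomPt x)).map i) (RG.BrTorus.isTorus_of_isSplitTorusWith hsx) (by
        rw [hd₁, H795.MaxTorDim.topologicalKrullDim_of_split hsx])
  have hcartx : SGA3x.IsCartanOver _ ((Over.pullback (Red.geomPt x)).map c) :=
    ⟨inferInstance, inferInstance, _, inferInstance, _, hmax, SplitBc264.isCentralizerOf_bc _ hc⟩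
  have hdx : topologicalKrullDim ↥C₀.left = topologicalKrullDim ↥(Red.geomFibre x C).left :=
    dim_cartan_bc v x _ hcartx c₀ hc₀
  have hloc := DimFib.isLocallyConstant_dim_geomFibre _ C
  obtain ⟨V, hV, hxV, hVc⟩ := (IsLocallyConstant.iff_exists_open _).1 hloc x
  refine ⟨v '' V, ?_, v.isOpenMap _ hV, ⟨x, hxV, rfl⟩⟩
  rintro _ ⟨y, hy, rfl⟩
  have hsmt : Smooth (Red.geomFibre (v y) G).hom :=
    inferInstanceAs (Smooth (pullback.snd G.hom (Red.geomPt (v y))))
  have hsept : IsSeparated (Red.geomFibre (v y) G).hom :=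
    inferInstanceAs (IsSeparated (pullback.snd G.hom (Red.geomPt (v y))))
  obtain ⟨C', _, c', hc'⟩ := exists_cartan (Red.geomFibre (v y) G)
  refine ⟨C', inferInstance, c', hc', ?_⟩
  have hsmy : Smooth (Red.geomFibre y (Red.bc v G)).hom :=
    inferInstanceAs (Smooth (pullback.snd (Red.bc v G).hom (Red.geomPt y)))
  have hsepy : IsSeparated (Red.geomFibre y (Red.bc v G)).hom :=
    inferInstanceAs (IsSeparated (pullback.snd (Red.bc v G).hom (Red.geomPt y)))
  have hTy : Red.IsTorus (Red.geomFibre y (Red.DS (Spec (CommRingCat.of B)) (Fin r → ℤ))) :=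
    TorusBc.isTorus_bc _ hT
  obtain ⟨C'', _, c'', f, hc'', hf⟩ := exists_cartan_le ((Over.pullback (Red.geomPt y)).map i) hTy
    ((Over.pullback (Red.geomPt y)).map c) (SplitBc264.isCentralizerOf_bc _ hc)
  have hcly : IsClosedImmersion ((Over.pullback (Red.geomPt y)).map c).left :=
    SplitBc264.isClosedImmersion_bc _ c hcl
  rw [dim_cartan_bc v y c'' hc'' c' hc']
  refine (dim_le c'' hc'' _ f hf).trans ?_
  rw [show topologicalKrullDim ↥(Red.geomFibre y C).left = topologicalKrullDim ↥(Red.geomFibre x C).left from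
    hVc y hy, ← hdx]
  exact hd₀

end K16.NilRankOpen
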