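import Groth.Agent.RedSub.K197.QuotPts
import Groth.Agent.RedSub.H650.QuotPts
import Groth.Agent.Sga1.SigmaFinite
import Groth.Agent.S0084
import Mathlib.AlgebraicGeometry.ZariskisMainTheorem

/-!
# `G/C ⟶ G/N` is finite when `N` is covered by finitely many cosets of `C`
-/

set_option autoImplicit false
set_option linter.unusedSectionVars false
universe u
open CategoryTheory MonoidalCategory CartesianMonoidalCategory MonObj GrpObj AlgebraicGeometry Limits

namespace K16.NormFin

open K197.QuotPts

variable {S : Scheme.{u}}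

/-- pullback squares in `Over S`, on schemes -/
theorem isPullback_left {A B C D : Over S} {f : A ⟶ B} {g : A ⟶ C} {h : B ⟶ D} {k : C ⟶ D}
    (sq : IsPullback f g h k) : IsPullback f.left g.left h.left k.left := sq.map (Over.forget S)

variable {G C N W Q' : Over S} [GrpObj G] [GrpObj C] [GrpObj N] {c : C ⟶ G} {n : N ⟶ G} [IsMonHom n] (f : C ⟶ N)
  (hf : f ≫ n = c) {q : G ⟶ W} {q' : G ⟶ Q'} (hq : RedSub.IsQuotient c q) (hq' : RedSub.IsQuotient n q')
  (π : W ⟶ Q') (hπ : q ≫ π = q')

theorem isPullback_whisker {A B : Over S} (G : Over S) (l : A ⟶ B) :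
    IsPullback (G ◁ l) (snd G A) (snd G B) l := by
  refine isPullback_of_pts (by simp) (fun T x y h => ⟨lift (x ≫ fst _ _) y, ?_, by simp⟩) fun T a a' h1 h2 => ?_
  · apply CartesianMonoidalCategory.hom_ext
    · simp
    · simpa using h.symm
  · apply CartesianMonoidalCategory.hom_ext
    · have := congrArg (· ≫ fst _ _) h1
      simpa using this
    · exact h2

include hf hq hq' hπ in
theorem isFinite [IsSeparated π.left] [LocallyOfFiniteType π.left] [QuasiCompact π.left] {J : Type u} [Finite J]
    (ν : J → (𝟙_ (Over S) ⟶ N)) (hν : ∀ m : N.left, ∃ j, m ∈ Set.range ((toUnit C ≫ ν j) * f).left) :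
    IsFinite π.left := by
  let P := pullback q' π
  let p₁ : P ⟶ G := pullback.fst q' π
  let p₂ : P ⟶ W := pullback.snd q' π
  have hP : IsPullback p₁ p₂ q' π := IsPullback.of_hasPullback q' π
  -- the sections
  let τ : J → (G ⟶ G) := fun j => 𝟙 G * (toUnit G ≫ ν j ≫ n)
  have hτ : ∀ j, τ j ≫ q' = q' := fun j => by
    have h1 := mul_comp_eq hq' (𝟙 G) (toUnit G ≫ ν j)
    rw [Category.assoc, Category.id_comp] at h1
    exact h1
  let s : J → (G ⟶ P) := fun j => hP.lift (𝟙 G) (τ j ≫ q) (by
    rw [Category.assoc, hπ, hτ, Category.id_comp])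
  have hs1 : ∀ j, s j ≫ p₁ = 𝟙 G := fun j => hP.lift_fst _ _ _
  have hs2 : ∀ j, s j ≫ p₂ = τ j ≫ q := fun j => hP.lift_snd _ _ _
  -- the projection from `G × N`
  let a : G ⊗ N ⟶ G := (G ◁ n) ≫ μ[G]
  have ha : fst G N ≫ q' = a ≫ q' := hq'.2.2.2.w
  let r : G ⊗ N ⟶ P := hP.lift (fst G N) (a ≫ q) (by rw [Category.assoc, hπ, ha])
  have hr1 : r ≫ p₁ = fst G N := hP.lift_fst _ _ _
  have hr2 : r ≫ p₂ = a ≫ q := hP.lift_snd _ _ _
  have hbig : IsPullback (r ≫ p₁) a q' (q ≫ π) := by
    rw [hr1, hπ]
    exact hq'.2.2.2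
  have hr : IsPullback r a p₂ q := IsPullback.of_right hbig hr2 hP
  have hrs : Surjective r.left := by
    have h1 := hq.1
    exact MorphismProperty.of_isPullback (P := @Surjective) (isPullback_left hr).flip h1
  -- the cosets
  let l : J → (C ⟶ N) := fun j => (toUnit C ≫ ν j) * f
  have hl : ∀ j, (G ◁ l j) ≫ r = fst G C ≫ s j := by
    intro j
    apply hP.hom_ext
    · rw [Category.assoc, Category.assoc, hr1, hs1, Category.comp_id, whiskerLeft_fst]
    · rw [Category.assoc, Category.assoc, hr2, hs2]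
      have h1 : (G ◁ l j) ≫ a = (fst G C ≫ τ j) * (snd G C ≫ c) := by
        have h2 : (G ◁ l j) = lift (fst G C) (snd G C ≫ l j) := by
          apply CartesianMonoidalCategory.hom_ext <;> simp
        rw [h2]
        change lift (fst G C) (snd G C ≫ l j) ≫ (G ◁ n) ≫ μ[G] = _
        rw [lift_whisker_mul]
        simp only [l, τ, MonObj.comp_mul, MonObj.mul_comp, Category.assoc, Category.comp_id, hf]
        rw [_root_.mul_assoc]
        congr 2
        rw [← Category.assoc, ← Category.assoc (fst G C)]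
        congr 1
        exact toUnit_unique _ _
      exact (Category.assoc _ _ _).symm.trans ((congrArg (· ≫ q) h1).trans
        ((mul_comp_eq hq _ _).trans (Category.assoc _ _ _)))
  have hcov : ∀ z : P.left, ∃ j, z ∈ Set.range (s j).left := by
    intro z
    obtain ⟨y, rfl⟩ := r.left.surjective z
    obtain ⟨j, c', hc'⟩ := hν ((snd G N).left y)
    obtain ⟨w, hw1, hw2⟩ := Scheme.exists_preimage_of_isPullback (isPullback_left (isPullback_whisker G (l j))) y c'
      hc'.symm
    refine ⟨j, (fst G C).left w, ?_⟩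
    rw [← hw1, ← Scheme.Hom.comp_apply, ← Scheme.Hom.comp_apply, ← Over.comp_left, ← Over.comp_left, hl]
  -- finiteness of `P ⟶ G`
  have hps : IsSeparated p₁.left := MorphismProperty.of_isPullback (P := @IsSeparated) (isPullback_left hP).flip ‹_›
  have hpt : LocallyOfFiniteType p₁.left :=
    MorphismProperty.of_isPullback (P := @LocallyOfFiniteType) (isPullback_left hP).flip ‹_›
  have hpq : QuasiCompact p₁.left := MorphismProperty.of_isPullback (P := @QuasiCompact) (isPullback_left hP).flip ‹_›
  let σ : (∐ fun _ : J => G.left) ⟶ P.left := Sigma.desc fun j => (s j).left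
  have hσ : Surjective σ := Surjective.sigmaDesc_of_union_range_eq_univ (by
    rw [Set.eq_univ_iff_forall]
    intro z
    exact Set.mem_iUnion.2 (hcov z))
  have hσp : σ ≫ p₁.left = Sigma.desc fun _ : J => 𝟙 G.left := by
    apply Sigma.hom_ext
    intro j
    rw [Sigma.ι_desc_assoc, Sigma.ι_desc]
    exact congrArg CommaMorphism.left (hs1 j)
  have huc : UniversallyClosed p₁.left := by
    have h1 : IsFinite (σ ≫ p₁.left) := by
      rw [hσp]
      exact Groth.Agent.Sga1.SigmaFinite.isFinite_sigmaDesc _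
    exact UniversallyClosed.of_comp_surjective σ p₁.left
  have hpp : IsProper p₁.left := {}
  have hlqf : LocallyQuasiFinite p₁.left := by
    refine LocallyQuasiFinite.of_finite_preimage_singleton _ fun x => ?_
    refine (Set.finite_range fun j : J => (s j).left x).subset ?_
    intro z hz
    obtain ⟨j, g, rfl⟩ := hcov z
    refine ⟨j, ?_⟩
    have h1 : p₁.left ((s j).left g) = g := by
      rw [← Scheme.Hom.comp_apply, ← Over.comp_left, hs1]
      rfl
    have h2 : g = x := h1.symm.trans hz
    rw [← h2]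
  have hfin : IsFinite p₁.left := IsFinite.of_isProper_of_locallyQuasiFinite _
  -- descent
  have hd := Groth.Agent.S0084.result.{u}
  have := hq'.1
  have := hq'.2.1
  have := hq'.2.2.1
  exact MorphismProperty.of_isPullback_of_descendsAlong (P := @IsFinite)
    (Q := @Surjective ⊓ @Flat ⊓ @LocallyOfFinitePresentation) (isPullback_left hP) ⟨⟨‹_›, ‹_›⟩, ‹_›⟩ hfin

end K16.NormFin
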