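import Groth.Agent.SGA3x.K16.OrbClosed
import Groth.Agent.SGA3x.K16.TorsCent
import Groth.Agent.SGA3x.K16.NormFin
import Groth.Agent.SGA3x.K5.MTNorm
import Groth.Agent.SGA3x.K5.CentNorm
import Groth.Agent.AGF.K501.NormPts
import Groth.Agent.S0116
import Groth.Agent.S0021
import Groth.Agent.S0082

/-!
# Quotients of smooth affine groups by centralizers and normalizers of multiplicative type subgroups are affine
-/

set_option autoImplicit false
set_option linter.unusedSectionVars false
universe u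
open CategoryTheory MonoidalCategory CartesianMonoidalCategory MonObj GrpObj AlgebraicGeometry Limits

namespace K16.CentAffine

open Groth.Agent Groth.Agent.Sga3B Groth.Agent.Books.AlgPts OrbHom OrbClosed BcPts

/-- Over an algebraically closed field groups of multiplicative type and of finite type are diagonalizable. -/
theorem exists_split {K : Type u} [Field K] [IsAlgClosed K] {H : Over (Spec (CommRingCat.of K))} [GrpObj H]
    (hH : SGA3x.IsMultTypeFT H) : ∃ (M : Type) (_ : AddCommGroup M), AddGroup.FG M ∧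
      Nonempty (Grp.mk H ≅ Grp.mk (Red.DS (Spec (CommRingCat.of K)) M)) := by
  obtain ⟨B, _, v, M, _, hv, ⟨y, hy⟩, hM, ⟨e⟩⟩ := K10.MTLoc.exists_etale_split hH (IsLocalRing.closedPoint K)
  let V : Over (Spec (CommRingCat.of K)) := Over.mk v
  have hV : LocallyOfFiniteType V.hom := inferInstanceAs (LocallyOfFiniteType v)
  obtain ⟨x, -⟩ := exists_pt_mem (X := V) (U := Set.univ) ⟨y, trivial⟩ isOpen_univ.isLocallyClosed
  -- the section
  let x' : Spec (CommRingCat.of K) ⟶ Spec (CommRingCat.of B) := x.left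
  have hx' : x' ≫ v = 𝟙 _ := Over.w x
  refine ⟨M, inferInstance, hM, ⟨?_⟩⟩
  exact (BcIso.bcIdIso H).symm ≪≫ BcIso.bcCongrIso hx'.symm H ≪≫ BcIso.bcCompIso x' v H ≪≫ BcIso.bcMapIso x' e ≪≫
    TorusAlgClosed.dsBcIso x' M

section

variable {K : Type u} [Field K] [IsAlgClosed K] {G H C : Over (Spec (CommRingCat.of K))} [GrpObj G] [GrpObj H]
  [GrpObj C] [Smooth G.hom] [QuasiCompact G.hom] [IsAffine G.left] (h : H ⟶ G) [IsMonHom h]

/-- The quotient by the centralizer of a homomorphism from a group of multiplicative type exists and is affine. -/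
theorem exists_quotient (hH : SGA3x.IsMultTypeFT H) (c : C ⟶ G) (hc : Red.IsCentralizerOf h c) :
    ∃ (W : Over (Spec (CommRingCat.of K))) (q : G ⟶ W), RedSub.IsQuotient c q ∧ IsAffine W.left ∧
      LocallyOfFiniteType W.hom := by
  obtain ⟨M, _, hM, ⟨e⟩⟩ := exists_split hH
  have hGn : AlgebraicGeometry.IsNoetherian G.left := by
    have h1 : IsLocallyNoetherian G.left := LocallyOfFiniteType.isLocallyNoetherian G.hom
    exact {}
  have he1 : IsMonHom (RedIso.und e).hom := inferInstance
  have he2 : IsMonHom (RedIso.und e).inv := inferInstance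
  let u : Red.DS (Spec (CommRingCat.of K)) M ⟶ G := (RedIso.und e).inv ≫ h
  have hu : IsMonHom u := inferInstance
  obtain ⟨n, hn⟩ := TorsCent.exists_index u
  have hdm : IsMonHom (Red.DSmap (Spec (CommRingCat.of K)) (TorsGen.pn M n)) := TorsCent.isMonHom_DSmap _
  have hcu : Red.IsCentralizerOf (Red.DSmap (Spec (CommRingCat.of K)) (TorsGen.pn M n) ≫ u) c := by
    refine ⟨hc.1, hc.2.1, fun X g => (hc.2.2 X g).trans ?_⟩
    have h1 := hn X g
    unfold TorsCent.Cent at h1
    rw [h1]
    constructor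
    · intro h2 X' x d
      have h3 := h2 X' x (d ≫ (RedIso.und e).inv)
      rwa [Category.assoc] at h3
    · intro h2 X' x d
      have h3 := h2 X' x (d ≫ (RedIso.und e).hom)
      have h4 : (d ≫ (RedIso.und e).hom) ≫ u = d ≫ h := by
        simp only [u, Category.assoc, Iso.hom_inv_id_assoc]
      rwa [h4] at h3
  have hMT : SGA3x.IsMultTypeFT (Red.DS (Spec (CommRingCat.of K)) (TorsGen.Pn M n)) :=
    K10.MTLoc.of_split inferInstance ⟨Iso.refl _⟩
  have hfl := K10.MTLoc.flat hMT
  have hlfp := K10.MTLoc.locallyOfFinitePresentation hMT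
  obtain ⟨X, υ, hυ, hXa, hXt, -⟩ := K20.HomGrp.exists_representsHom
    (Red.DS (Spec (CommRingCat.of K)) (TorsGen.Pn M n)) G
  have hXt' := hXt inferInstance
  have hXa' : IsAffine X.left := isAffine_of_isAffineHom X.hom
  exact OrbClosed.exists_quotient hυ hMT hcu

/-- Finitely many cosets of an open subgroup cover a quasi-compact group. -/
theorem exists_cosets {C N : Over (Spec (CommRingCat.of K))} [GrpObj C] [GrpObj N] [LocallyOfFiniteType N.hom]
    [CompactSpace N.left] (f : C ⟶ N) [IsMonHom f] (hf : IsOpenImmersion f.left) :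
    ∃ (J : Type u) (_ : Finite J) (ν : J → (𝟙_ (Over (Spec (CommRingCat.of K))) ⟶ N)),
      ∀ m : N.left, ∃ j, m ∈ Set.range ((toUnit C ≫ ν j) * f).left := by
  -- translations
  let tr : (𝟙_ (Over (Spec (CommRingCat.of K))) ⟶ N) → (N ⟶ N) := fun x => (toUnit N ≫ x) * 𝟙 N
  have htr : ∀ x y, tr x ≫ tr y = tr (y * x) := fun x y => by
    simp only [tr, MonObj.comp_mul, Category.comp_id, ← Category.assoc]
    rw [_root_.mul_assoc]
    congr 2
    exact toUnit_unique _ _
  have htr1 : tr 1 = 𝟙 N := by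
    simp only [tr, MonObj.comp_one, _root_.one_mul]
  have hiso : ∀ x, IsIso (tr x) := fun x => ⟨tr x⁻¹, by rw [htr, inv_mul_cancel, htr1], by rw [htr, mul_inv_cancel, htr1]⟩
  have hl : ∀ x, (toUnit C ≫ x) * f = f ≫ tr x := fun x => by
    simp only [tr, MonObj.comp_mul, Category.comp_id, ← Category.assoc]
    congr 2
    exact toUnit_unique _ _
  have hopen : ∀ x, IsOpen (Set.range ((toUnit C ≫ x) * f).left) := fun x => by
    rw [hl x, Over.comp_left]
    have h1 : IsIso (tr x).left := inferInstanceAs (IsIso ((Over.forget _).map (tr x)))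
    exact (f.left ≫ (tr x).left).isOpenEmbedding.isOpen_range
  have hcov : (⋃ x, Set.range ((toUnit C ≫ x) * f).left) = Set.univ := by
    by_contra hne
    rw [← ne_eq, ← Set.nonempty_compl] at hne
    obtain ⟨x, hx⟩ := exists_pt_mem (X := N) hne (isOpen_iUnion hopen).isClosed_compl.isLocallyClosed
    apply hx
    refine Set.mem_iUnion.2 ⟨x, ?_⟩
    have h1 : (1 : 𝟙_ (Over (Spec (CommRingCat.of K))) ⟶ C) ≫ ((toUnit C ≫ x) * f) = x := by
      have h2 : (1 : 𝟙_ (Over (Spec (CommRingCat.of K))) ⟶ C) ≫ toUnit C = 𝟙 _ := toUnit_unique _ _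
      have h3 : (1 : 𝟙_ (Over (Spec (CommRingCat.of K))) ⟶ C) ≫ f = 1 := MonObj.one_comp f
      rw [MonObj.comp_mul, h3, _root_.mul_one, ← Category.assoc, h2, Category.id_comp]
    rw [← h1, pt_comp]
    exact ⟨_, by rw [h1]⟩
  obtain ⟨t, ht⟩ := isCompact_univ.elim_finite_subcover (fun x => Set.range ((toUnit C ≫ x) * f).left) hopen
    (by rw [hcov])
  refine ⟨t, inferInstance, fun j => j.1, fun m => ?_⟩
  obtain ⟨x, hx, hm⟩ := Set.mem_iUnion₂.1 (ht (Set.mem_univ m))
  exact ⟨⟨x, hx⟩, hm⟩

/-- The quotient by the normalizer is affine. -/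
theorem isAffine_norm [Mono h] (hH : SGA3x.IsMultTypeFT H) (c : C ⟶ G) (hc : Red.IsCentralizerOf h c)
    {N : Over (Spec (CommRingCat.of K))} [GrpObj N] (n : N ⟶ G) (hn : Red.IsNormalizerOf h n)
    {Q : Over (Spec (CommRingCat.of K))} (q : G ⟶ Q) (hq : RedSub.IsQuotient n q) : IsAffine Q.left := by
  have hc1 := hc.1
  have hc2 := hc.2.1
  have hn1 := hn.1
  have hn2 := hn.2.1
  have hcl := SGA3x.K5.MTNorm.isClosedImmersion_of_mono h hH
  obtain ⟨N₀, _, n₀, hn₀, hn₀c, -, -⟩ := SGA3x.K5.MTNorm.exists_normalizer h hH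
  have hn₀m := hn₀.2.1
  obtain ⟨a, ha⟩ := (hn₀.2.2 N n).2 ((hn.2.2 N n).1 ⟨𝟙 _, Category.id_comp _⟩)
  obtain ⟨b, hb⟩ := (hn.2.2 N₀ n₀).2 ((hn₀.2.2 N₀ n₀).1 ⟨𝟙 _, Category.id_comp _⟩)
  have hab : a ≫ b = 𝟙 _ := by rw [← cancel_mono n, Category.assoc, hb, ha, Category.id_comp]
  have hba : b ≫ a = 𝟙 _ := by rw [← cancel_mono n₀, Category.assoc, ha, hb, Category.id_comp]
  have hai : IsIso a := ⟨b, hab, hba⟩
  have hncl : IsClosedImmersion n.left := by
    have h1 : IsIso a.left := inferInstanceAs (IsIso ((Over.forget _).map a))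
    have h2 : IsClosedImmersion n₀.left := hn₀c
    have h3 : IsClosedImmersion (a.left ≫ n₀.left) := inferInstance
    have h4 : a.left ≫ n₀.left = n.left := congrArg CommaMorphism.left ha
    rwa [← h4]
  have hNl : LocallyOfFiniteType N.hom := by rw [← Over.w n]; infer_instance
  have hNc : CompactSpace N.left := by
    have : IsAffine N.left := isAffine_of_isAffineHom n.left
    infer_instance
  obtain ⟨f, hf, hfo, -⟩ := SGA3x.K5.CentNorm.exists_openImmersion hH h c n hc hn
  have hfm' : IsMonHom (f ≫ n) := by rw [hf]; exact hc1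
  have hfm : IsMonHom f := InfConjFam.isMonHom_of_mul f fun T x y => by
    rw [← cancel_mono n, MonObj.mul_comp (x ≫ f) (y ≫ f) n, Category.assoc, Category.assoc, Category.assoc]
    exact MonObj.mul_comp x y (f ≫ n)
  obtain ⟨J, _, ν, hν⟩ := exists_cosets f hfo
  obtain ⟨W, p, hp, hWa, hWt⟩ := exists_quotient h hH c hc
  obtain ⟨π, hπ⟩ := RedSub.H650.QuotPts.exists_desc hp q fun T x y => by
    rw [← hf, ← Category.assoc]
    exact K197.QuotPts.mul_comp_eq hq x (y ≫ f)
  have hq1 := hq.1
  have hq2 := hq.2.1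
  have hq3 := hq.2.2.1
  have hGn : IsLocallyNoetherian G.left := LocallyOfFiniteType.isLocallyNoetherian G.hom
  have hQn : IsLocallyNoetherian Q.left := S0116.result q.left
  have hQc : CompactSpace Q.left := q.left.surjective.compactSpace q.left.continuous
  have hQN : AlgebraicGeometry.IsNoetherian Q.left := {}
  have hWn : IsLocallyNoetherian W.left := LocallyOfFiniteType.isLocallyNoetherian W.hom
  have hWN : AlgebraicGeometry.IsNoetherian W.left := {}
  have hπs : IsSeparated π.left := by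
    have h1 : IsSeparated (π.left ≫ Q.hom) := by rw [Over.w]; infer_instance
    exact IsSeparated.of_comp π.left Q.hom
  have hπt : LocallyOfFiniteType π.left := by
    have h1 : LocallyOfFiniteType (π.left ≫ Q.hom) := by rw [Over.w]; exact hWt
    exact locallyOfFiniteType_of_comp π.left Q.hom
  have hπf : IsFinite π.left := NormFin.isFinite f hf hp hq π hπ ν hν
  have hπsu : Surjective π.left := by
    have h1 : Surjective (p.left ≫ π.left) := by
      rw [← Over.comp_left, hπ]
      exact hq1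
    exact Surjective.of_comp p.left π.left
  exact S0021.result π.left

end

end K16.CentAffine
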