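import Groth.Agent.Sga3C.CWFam
import Groth.Agent.Sga3B.CentRep
import Groth.Prelude.Def_SGA3x

/-!
# Normalizers and transporters of a smooth geometrically irreducible group, without closedness
-/

set_option autoImplicit false
universe u
open CategoryTheory MonoidalCategory CartesianMonoidalCategory MonObj GrpObj AlgebraicGeometry

namespace K16.NormRep

open Groth.Agent Groth.Agent.Sga3B CentRep

variable {S : Scheme.{u}}

/-- The condition `g C g⁻¹ ⊂ H` is represented by a closed subscheme of `G` of finite presentation, for `C` smooth and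
geometrically irreducible and `H → G` a monomorphism. -/
theorem exists_transporter {G H C : Over S} [GrpObj G] [GrpObj H] [GrpObj C] [LocallyOfFiniteType G.hom]
    [LocallyOfFinitePresentation H.hom] [Smooth C.hom] [GeometricallyIrreducible C.hom] (i : H ⟶ G) [IsMonHom i]
    [Mono i] (c : C ⟶ G) [IsMonHom c] :
    ∃ (M : Over S) (m : M ⟶ G), IsClosedImmersion m.left ∧ LocallyOfFinitePresentation m.left ∧
      ∀ (X : Over S) (g : X ⟶ G), (∃ z : X ⟶ M, z ≫ m = g) ↔
        ∀ (X' : Over S) (x : X' ⟶ X) (y : X' ⟶ C), ∃ h : X' ⟶ H, (x ≫ g) * (y ≫ c) * (x ≫ g)⁻¹ = h ≫ i := by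
  let c1 : G ⊗ C ⟶ G := fst G C * (snd G C ≫ c) * (fst G C)⁻¹
  have hc1 : ∀ {U : Over S} (t : U ⟶ G) (a : U ⟶ C), lift t a ≫ c1 = t * (a ≫ c) * t⁻¹ := by
    intro U t a
    simp only [c1, comp_mul, GrpObj.comp_inv, lift_fst, lift_snd_assoc]
  have hw1 : ∀ {T : Over S} (g : T ⟶ G), (g ▷ C) ≫ c1 =
      (fst T C ≫ g) * (snd T C ≫ c) * (fst T C ≫ g)⁻¹ := by
    intro T g
    simp only [c1, comp_mul, GrpObj.comp_inv, whiskerRight_fst, whiskerRight_snd_assoc]
  have hm1 : Groth.Agent.Sga3C.CWFam.IsMul c1 := by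
    intro U t a b
    rw [hc1, hc1, hc1, mul_comp]
    group
  obtain ⟨N, n, hn1, hn2, hn⟩ := Groth.Agent.Sga3C.CWFam.exists_closed i c1 hm1
  refine ⟨N, n, hn1, hn2, fun X g => ?_⟩
  rw [hn]
  constructor
  · rintro ⟨a, ha⟩ T' t h
    refine ⟨lift t h ≫ a, ?_⟩
    rw [Category.assoc, ha, lift_whiskerRight_assoc, hc1]
  · intro h
    obtain ⟨h1, hh1⟩ := h (X ⊗ C) (fst X C) (snd X C)
    exact ⟨h1, by rw [← hh1, hw1]⟩

/-- The normalizer of a smooth geometrically irreducible group `H → G` (a monomorphism) is represented by a closed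
subgroup of `G` of finite presentation. -/
theorem exists_normalizer {G H : Over S} [GrpObj G] [GrpObj H] [LocallyOfFiniteType G.hom]
    [Smooth H.hom] [GeometricallyIrreducible H.hom] (i : H ⟶ G) [IsMonHom i] [Mono i] :
    ∃ (N : Over S) (_ : GrpObj N) (n : N ⟶ G), IsClosedImmersion n.left ∧ Red.IsNormalizerOf i n ∧
      LocallyOfFinitePresentation n.left := by
  let c1 : G ⊗ H ⟶ G := fst G H * (snd G H ≫ i) * (fst G H)⁻¹
  let c2 : G ⊗ H ⟶ G := (fst G H)⁻¹ * (snd G H ≫ i) * fst G H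
  have hc1 : ∀ {U : Over S} (t : U ⟶ G) (a : U ⟶ H), lift t a ≫ c1 = t * (a ≫ i) * t⁻¹ := by
    intro U t a
    simp only [c1, comp_mul, GrpObj.comp_inv, lift_fst, lift_snd_assoc]
  have hc2 : ∀ {U : Over S} (t : U ⟶ G) (a : U ⟶ H), lift t a ≫ c2 = t⁻¹ * (a ≫ i) * t := by
    intro U t a
    simp only [c2, comp_mul, GrpObj.comp_inv, lift_fst, lift_snd_assoc]
  have hw1 : ∀ {T : Over S} (g : T ⟶ G), (g ▷ H) ≫ c1 =
      (fst T H ≫ g) * (snd T H ≫ i) * (fst T H ≫ g)⁻¹ := by
    intro T g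
    simp only [c1, comp_mul, GrpObj.comp_inv, whiskerRight_fst, whiskerRight_snd_assoc]
  have hw2 : ∀ {T : Over S} (g : T ⟶ G), (g ▷ H) ≫ c2 =
      (fst T H ≫ g)⁻¹ * (snd T H ≫ i) * (fst T H ≫ g) := by
    intro T g
    simp only [c2, comp_mul, GrpObj.comp_inv, whiskerRight_fst, whiskerRight_snd_assoc]
  have hm1 : ∀ {U : Over S} (t : U ⟶ G) (a b : U ⟶ H),
      lift t (a * b) ≫ c1 = (lift t a ≫ c1) * (lift t b ≫ c1) := by
    intro U t a b
    rw [hc1, hc1, hc1, mul_comp]
    group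
  have hm2 : ∀ {U : Over S} (t : U ⟶ G) (a b : U ⟶ H),
      lift t (a * b) ≫ c2 = (lift t a ≫ c2) * (lift t b ≫ c2) := by
    intro U t a b
    rw [hc2, hc2, hc2, mul_comp]
    group
  have hmono : Mono (i ⊗ₘ i) := by
    constructor
    intro U a b hab
    have h1 := congrArg (· ≫ fst G G) hab
    have h2 := congrArg (· ≫ snd G G) hab
    simp only [Category.assoc, tensorHom_fst, tensorHom_snd] at h1 h2
    ext1
    · rwa [← cancel_mono i, Category.assoc, Category.assoc]
    · rwa [← cancel_mono i, Category.assoc, Category.assoc]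
  have hlfp : LocallyOfFinitePresentation (H ⊗ H).hom := by
    rw [Over.tensorObj_hom]
    infer_instance
  have hlft : LocallyOfFiniteType (G ⊗ G).hom := by
    rw [Over.tensorObj_hom]
    infer_instance
  have hmul : Groth.Agent.Sga3C.CWFam.IsMul (lift c1 c2) := by
    intro U t a b
    ext1
    · rw [mul_comp]
      simp only [Category.assoc, lift_fst]
      exact hm1 t a b
    · rw [mul_comp]
      simp only [Category.assoc, lift_snd]
      exact hm2 t a b
  obtain ⟨N, n, hn1, hn2, hn⟩ :=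
    Groth.Agent.Sga3C.CWFam.exists_closed (i ⊗ₘ i) (lift c1 c2) hmul
  have hnm : Mono n := Over.mono_of_mono_left n
  have key : ∀ (T : Over S) (g : T ⟶ G), (∃ a : T ⟶ N, a ≫ n = g) ↔ g ∈ normPts i T := by
    intro T g
    rw [hn, mem_normPts]
    constructor
    · rintro ⟨a, ha⟩ T' t h
      have ha1 : a ≫ fst H H ≫ i = (g ▷ H) ≫ c1 := by
        have := congrArg (· ≫ fst G G) ha
        simpa only [Category.assoc, tensorHom_fst, lift_fst] using this
      have ha2 : a ≫ snd H H ≫ i = (g ▷ H) ≫ c2 := by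
        have := congrArg (· ≫ snd G G) ha
        simpa only [Category.assoc, tensorHom_snd, lift_snd] using this
      refine ⟨⟨lift t h ≫ a ≫ fst H H, ?_⟩, ⟨lift t h ≫ a ≫ snd H H, ?_⟩⟩
      · rw [Category.assoc, Category.assoc, ha1, lift_whiskerRight_assoc, hc1]
      · rw [Category.assoc, Category.assoc, ha2, lift_whiskerRight_assoc, hc2]
    · intro h
      obtain ⟨⟨h1, hh1⟩, ⟨h2, hh2⟩⟩ := h (T ⊗ H) (fst T H) (snd T H)
      refine ⟨lift h1 h2, ?_⟩
      ext1
      · simp only [Category.assoc, tensorHom_fst, lift_fst, lift_fst_assoc]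
        rw [← hh1, hw1]
      · simp only [Category.assoc, tensorHom_snd, lift_snd, lift_snd_assoc]
        rw [← hh2, hw2]
  obtain ⟨i1, i2⟩ := exists_grpObj n (normPts i) key
  exact ⟨N, i1, n, hn1, ⟨i2, hnm, fun T g => (key T g).trans (mem_normPts i)⟩, hn2⟩

end K16.NormRep
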