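import Groth.Agent.Sga3.H773.LocConj
import Groth.Agent.Sga3.H799.FibCrit

/-!
# Transporting a regular subgroup into a smooth subgroup can be tested on points

`C` a subgroup of `G`, `φ : Γ →* C(Y)` regular (i.e. `C` is open in the centralizer of `φ`), `H` a smooth subgroup of
`G`, `g ∈ G(Y)` such that `g φ g⁻¹` takes values in `H`. If `g C g⁻¹ ⊂ H` after a surjective base change `Y₀ → Y` then
`g C g⁻¹ ⊂ H`.
-/

set_option autoImplicit false
universe u
open CategoryTheory MonoidalCategory CartesianMonoidalCategory MonObj GrpObj AlgebraicGeometry Limits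

namespace K16.TranspNil

open Groth.Agent Groth.Agent.Sga3B.DSPts Groth.Agent.Sga3.H797.HomFin Groth.Agent.Sga3.H773.FinCent
  Groth.Agent.Sga3.H773.ToBc Groth.Agent.Sga3.H773.RegLoc Groth.Agent.Sga3.H773.ConjReg

variable {S : Scheme.{u}}

lemma toBc_left_fst {H : Over S} [GrpObj H] {Y' Y : Over S} (y : Y' ⟶ Y) (h : Y' ⟶ H) :
    (toBc H y h).left ≫ pullback.fst H.hom Y.hom = h.left := by
  rw [toBc_apply, bcEquiv_fst, Over.comp_left, ovIso_hom_left]
  exact Category.id_comp _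

lemma toBc_symm_left {H : Over S} [GrpObj H] {Y' Y : Over S} (y : Y' ⟶ Y) (z : Over.mk y.left ⟶ Red.bc Y.hom H) :
    ((toBc H y).symm z).left = z.left ≫ pullback.fst H.hom Y.hom := by
  have h := toBc_left_fst y ((toBc H y).symm z)
  rw [MulEquiv.apply_symm_apply] at h
  exact h.symm

variable {G H C : Over S} [GrpObj G] [GrpObj H] [GrpObj C] (c : C ⟶ G) [IsMonHom c] [Mono c]
  (i : H ⟶ G) [IsMonHom i] [Mono i] {Γ : Type*} [Group Γ] [Finite Γ] {Y : Over S}
  (φ : Γ →* (Y ⟶ C)) (g : Y ⟶ G) (ψ : Γ →* (Y ⟶ H))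

/-- The conjugation map. -/
noncomputable abbrev kap : C ⊗ Y ⟶ G := (snd C Y ≫ g) * (fst C Y ≫ c) * (snd C Y ≫ g)⁻¹

omit [GrpObj C] [IsMonHom c] [Mono c] in
lemma lift_kap {T : Over S} (q : T ⟶ C) (t : T ⟶ Y) : lift q t ≫ kap c g = (t ≫ g) * (q ≫ c) * (t ≫ g)⁻¹ := by
  simp only [kap, comp_mul, GrpObj.comp_inv, lift_snd_assoc, lift_fst_assoc]

omit [GrpObj C] [IsMonHom c] [Mono c] in
lemma comp_kap {T : Over S} (e : T ⟶ C ⊗ Y) :
    e ≫ kap c g = (e ≫ snd C Y ≫ g) * (e ≫ fst C Y ≫ c) * (e ≫ snd C Y ≫ g)⁻¹ := by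
  simp only [kap, comp_mul, GrpObj.comp_inv]

variable (hψ : ∀ γ, g * (φ γ ≫ c) * g⁻¹ = ψ γ ≫ i)

include hψ in
theorem smooth_W [Smooth H.hom] [IsSeparated H.hom] (hn : Inv (Nat.card Γ) Y.left)
    (hreg : Reg c φ) (hcent : Central φ) : Smooth (pullback.fst (kap c g) i ≫ snd C Y).left := by
  let W : Over S := pullback (kap c g) i
  let w : W ⟶ C ⊗ Y := pullback.fst (kap c g) i
  let wh : W ⟶ H := pullback.snd (kap c g) i
  let y : W ⟶ Y := w ≫ snd C Y
  have hw : (y ≫ g) * (w ≫ fst C Y ≫ c) * (y ≫ g)⁻¹ = wh ≫ i := by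
    have h1 : w ≫ kap c g = wh ≫ i := pullback.condition
    rw [← h1, comp_kap, Category.assoc]
  have hsm : Smooth (Red.bc Y.hom H).hom := inferInstanceAs (Smooth (pullback.snd _ _))
  have hsp : IsSeparated (Red.bc Y.hom H).hom := inferInstanceAs (IsSeparated (pullback.snd _ _))
  let ψ' : Γ →* (𝟙_ (Over Y.left) ⟶ Red.bc Y.hom H) := (toPt H Y).toMonoidHom.comp ψ
  obtain ⟨Z, _, z, hzm, hzc, hZs, hZ⟩ := exists_cent hn ψ'
  have hzm' : Mono z := Over.mono_of_mono_left z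
  have hψ' : ∀ {Y' : Over S} (y' : Y' ⟶ Y) (γ : Γ), toUnit (Over.mk y'.left) ≫ ψ' γ = toBc H y' (y' ≫ ψ γ) :=
    fun y' γ => toUnit_toPt H y' (ψ γ)
  have hψi : ∀ {T : Over S} (t : T ⟶ Y) (γ : Γ), (t ≫ ψ γ) ≫ i = (t ≫ g) * (t ≫ φ γ ≫ c) * (t ≫ g)⁻¹ := by
    intro T t γ
    rw [Category.assoc, ← hψ]
    simp only [comp_mul, GrpObj.comp_inv]
  -- the morphism to the centralizer
  obtain ⟨j, hj⟩ : ∃ j : Over.mk y.left ⟶ Z, j ≫ z = toBc H y wh := (hZ _ _).2 (fun γ => by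
    rw [hψ', ← map_mul, ← map_mul]
    congr 1
    rw [← cancel_mono i, MonObj.mul_comp, MonObj.mul_comp, hψi, ← hw]
    have h2 := hcent.commute c y (w ≫ fst C Y) γ
    rw [Category.assoc] at h2
    have h3 : (y ≫ g) * (w ≫ fst C Y ≫ c) * (y ≫ g)⁻¹ * ((y ≫ g) * (y ≫ φ γ ≫ c) * (y ≫ g)⁻¹) =
      (y ≫ g) * ((w ≫ fst C Y ≫ c) * (y ≫ φ γ ≫ c)) * (y ≫ g)⁻¹ := by group
    rw [h3, h2]
    group)
  let Y' : Over S := Over.mk (Z.hom ≫ Y.hom)
  let yZ : Y' ⟶ Y := Over.homMk Z.hom rfl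
  let ζ : Y' ⟶ H := (toBc H yZ).symm z
  have hζl : ζ.left = z.left ≫ pullback.fst H.hom Y.hom := toBc_symm_left yZ z
  let vW : W ⟶ Y' := Over.homMk j.left (by
    change j.left ≫ Z.hom ≫ Y.hom = W.hom
    rw [← Category.assoc, Over.w j]
    exact Over.w y)
  have hvy : vW ≫ yZ = y := by
    apply Over.OverMorphism.ext
    exact Over.w j
  have hvζ : vW ≫ ζ = wh := by
    apply Over.OverMorphism.ext
    change j.left ≫ ζ.left = wh.left
    rw [hζl, ← Category.assoc, ← Over.comp_left, hj, toBc_left_fst]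
  have hζc : ∀ γ, ζ * (yZ ≫ ψ γ) = (yZ ≫ ψ γ) * ζ := by
    intro γ
    apply (toBc H yZ).injective
    rw [map_mul, map_mul]
    have h1 : toBc H yZ ζ = z := MulEquiv.apply_symm_apply _ _
    rw [h1, ← hψ']
    exact (hZ Z z).1 ⟨𝟙 _, Category.id_comp _⟩ γ
  let g' : Y' ⟶ G := (yZ ≫ g)⁻¹ * (ζ ≫ i) * (yZ ≫ g)
  obtain ⟨V, hV⟩ := hreg Y' yZ g' (fun γ => by
    have h1 := congrArg (· ≫ i) (hζc γ)
    simp only [MonObj.mul_comp] at h1
    rw [hψi] at h1
    change (yZ ≫ g)⁻¹ * (ζ ≫ i) * (yZ ≫ g) * _ = _ * ((yZ ≫ g)⁻¹ * (ζ ≫ i) * (yZ ≫ g))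
    generalize (yZ ≫ g) = A at *
    generalize (yZ ≫ φ γ ≫ c) = B at *
    generalize (ζ ≫ i) = D at *
    calc A⁻¹ * D * A * B = A⁻¹ * (D * (A * B * A⁻¹)) * A := by group
      _ = A⁻¹ * (A * B * A⁻¹ * D) * A := by rw [h1]
      _ = B * (A⁻¹ * D * A) := by group)
  have hjm : Mono j.left := by
    constructor
    intro T a b hab
    let T' : Over S := Over.mk (a ≫ W.hom)
    have hWy : W.hom = j.left ≫ Z.hom ≫ Y.hom := (Over.w vW).symm
    let a' : T' ⟶ W := Over.homMk a rfl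
    let b' : T' ⟶ W := Over.homMk b (by
      change b ≫ W.hom = a ≫ W.hom
      rw [hWy, reassoc_of% hab])
    have h1 : a' ≫ vW = b' ≫ vW := by
      apply Over.OverMorphism.ext
      exact hab
    have h2 : a' ≫ y = b' ≫ y := by rw [← hvy, ← Category.assoc, h1, Category.assoc]
    have h3 : a' ≫ wh = b' ≫ wh := by rw [← hvζ, ← Category.assoc, h1, Category.assoc]
    have h4 : a' ≫ w ≫ fst C Y = b' ≫ w ≫ fst C Y := by
      rw [← cancel_mono c]
      have h5 : ∀ e : T' ⟶ W, (e ≫ w ≫ fst C Y) ≫ c = (e ≫ y ≫ g)⁻¹ * (e ≫ wh ≫ i) * (e ≫ y ≫ g) := by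
        intro e
        rw [← hw]
        simp only [comp_mul, GrpObj.comp_inv, Category.assoc]
        group
      have e1 : a' ≫ y ≫ g = b' ≫ y ≫ g := by rw [← Category.assoc, h2, Category.assoc]
      have e2 : a' ≫ wh ≫ i = b' ≫ wh ≫ i := by rw [← Category.assoc, h3, Category.assoc]
      rw [h5, h5, e1, e2]
    have h6 : a' = b' := by
      apply pullback.hom_ext
      · apply CartesianMonoidalCategory.hom_ext
        · rw [Category.assoc, Category.assoc]
          exact h4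
        · rw [Category.assoc, Category.assoc]
          exact h2
      · exact h3
    exact congrArg CommaMorphism.left h6
  have hjo : IsOpenImmersion j.left := by
    refine isOpenImmersion_of_opens j.left V ?_ ?_
    · refine (hV W vW).1 ⟨w ≫ fst C Y, ?_⟩
      change _ = vW ≫ ((yZ ≫ g)⁻¹ * (ζ ≫ i) * (yZ ≫ g))
      rw [comp_mul, comp_mul, GrpObj.comp_inv, ← Category.assoc vW ζ i, hvζ, ← Category.assoc vW yZ g, hvy, ← hw,
        Category.assoc]
      group
    · let Y'' : Over S := Over.mk (V.ι ≫ Y'.hom)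
      let v : Y'' ⟶ Y' := Over.homMk V.ι rfl
      obtain ⟨q, hq⟩ := (hV Y'' v).2 (fun p => p.2)
      let l : Y'' ⟶ C ⊗ Y := lift q (v ≫ yZ)
      have hl : l ≫ kap c g = (v ≫ ζ) ≫ i := by
        rw [lift_kap, hq]
        change ((v ≫ yZ) ≫ g) * (v ≫ ((yZ ≫ g)⁻¹ * (ζ ≫ i) * (yZ ≫ g))) * ((v ≫ yZ) ≫ g)⁻¹ = _
        rw [comp_mul, comp_mul, GrpObj.comp_inv, Category.assoc, Category.assoc]
        group
      let r : Y'' ⟶ W := pullback.lift l (v ≫ ζ) hl
      have hr1 : r ≫ y = v ≫ yZ := by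
        change pullback.lift l (v ≫ ζ) hl ≫ pullback.fst (kap c g) i ≫ snd C Y = _
        rw [pullback.lift_fst_assoc, lift_snd]
      have hr2 : r ≫ wh = v ≫ ζ := pullback.lift_snd _ _ _
      refine ⟨r.left, ?_⟩
      have hzml : Mono z.left := inferInstance
      rw [← cancel_mono z.left]
      apply pullback.hom_ext
      · have h7 : r.left ≫ wh.left = V.ι ≫ ζ.left := congrArg CommaMorphism.left hr2
        have h7' : wh.left = j.left ≫ ζ.left := (congrArg CommaMorphism.left hvζ).symm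
        rw [h7', hζl] at h7
        simp only [Category.assoc]
        exact h7
      · have h8 : r.left ≫ y.left = V.ι ≫ Z.hom := congrArg CommaMorphism.left hr1
        have h8' : y.left = j.left ≫ Z.hom := (Over.w j).symm
        have h9 : z.left ≫ pullback.snd H.hom Y.hom = Z.hom := Over.w z
        rw [h8'] at h8
        simp only [Category.assoc]
        rw [h9]
        exact h8
  have h10 : y.left = j.left ≫ Z.hom := (Over.w j).symm
  change Smooth y.left
  rw [h10]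
  infer_instance

include hψ in
/-- **The main lemma.** -/
theorem factor_of_surjective [Flat C.hom] [LocallyOfFinitePresentation C.hom] [Smooth H.hom] [IsSeparated H.hom]
    (hn : Inv (Nat.card Γ) Y.left) (hreg : Reg c φ) (hcent : Central φ) {Y₀ : Over S} (k : Y₀ ⟶ Y) [Surjective k.left]
    (h₀ : ∀ (T : Over S) (t : T ⟶ Y₀) (q : T ⟶ C), ∃ h : T ⟶ H,
      (t ≫ k ≫ g) * (q ≫ c) * (t ≫ k ≫ g)⁻¹ = h ≫ i)
    (T : Over S) (t : T ⟶ Y) (q : T ⟶ C) : ∃ h : T ⟶ H, (t ≫ g) * (q ≫ c) * (t ≫ g)⁻¹ = h ≫ i := by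
  let W : Over S := pullback (kap c g) i
  let w : W ⟶ C ⊗ Y := pullback.fst (kap c g) i
  let wh : W ⟶ H := pullback.snd (kap c g) i
  let y : W ⟶ Y := w ≫ snd C Y
  let W' : Over Y.left := Over.mk y.left
  let E' : Over Y.left := Over.mk (snd C Y).left
  let w' : W' ⟶ E' := Over.homMk w.left rfl
  have hWs : Smooth W'.hom := smooth_W c i φ g ψ hψ hn hreg hcent
  have hlft : LocallyOfFiniteType E'.hom := inferInstanceAs (LocallyOfFiniteType (pullback.snd C.hom Y.hom))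
  have hwm : Mono w' := by
    have h1 : Mono w := inferInstance
    have h2 : Mono w'.left := inferInstanceAs (Mono w.left)
    exact Over.mono_of_mono_left w'
  have hiso : IsIso w' := by
    refine Sga3.H799.FibCrit.isIso_of_points w' fun y₁ => ?_
    obtain ⟨y₀, rfl⟩ := k.left.surjective y₁
    let x : Spec (CommRingCat.of (Y₀.left.residueField y₀)) ⟶ Y.left := Y₀.left.fromSpecResidueField y₀ ≫ k.left
    refine ⟨Y₀.left.residueField y₀, inferInstance, x, ?_, ?_⟩
    · change (Y₀.left.fromSpecResidueField y₀ ≫ k.left) _ = _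
      rw [Scheme.Hom.comp_apply]
      congr 1
      exact Scheme.fromSpecResidueField_apply _ _
    let P : Over (Spec (CommRingCat.of (Y₀.left.residueField y₀))) := (Over.pullback x).obj E'
    let T' : Over Y.left := (Over.map x).obj P
    let pr : T' ⟶ E' := (Sga3B.BcPts.bcEquiv x P E').symm (𝟙 _)
    let T₁ : Over S := Over.mk (T'.hom ≫ Y.hom)
    let pr₁ : T₁ ⟶ C ⊗ Y := Over.homMk pr.left (by
      change pr.left ≫ (C ⊗ Y).hom = T'.hom ≫ Y.hom
      rw [← Over.w pr, ← Over.w (snd C Y), Category.assoc]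
      rfl)
    let t₀ : T₁ ⟶ Y₀ := Over.homMk (P.hom ≫ Y₀.left.fromSpecResidueField y₀) (by
      change (P.hom ≫ Y₀.left.fromSpecResidueField y₀) ≫ Y₀.hom = (P.hom ≫ Y₀.left.fromSpecResidueField y₀ ≫ k.left) ≫ Y.hom
      rw [← Over.w k]
      simp only [Category.assoc])
    have ht : pr₁ ≫ snd C Y = t₀ ≫ k := by
      apply Over.OverMorphism.ext
      have h1 : pr.left ≫ (snd C Y).left = T'.hom := Over.w pr
      change pr.left ≫ (snd C Y).left = (P.hom ≫ Y₀.left.fromSpecResidueField y₀) ≫ k.left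
      rw [h1, Category.assoc]
      rfl
    obtain ⟨h, hh⟩ := h₀ T₁ t₀ (pr₁ ≫ fst C Y)
    let r : T₁ ⟶ W := pullback.lift pr₁ h (by
      rw [← hh, comp_kap, ← Category.assoc pr₁ (snd C Y) g, ht]
      simp only [Category.assoc])
    have hr : r ≫ w = pr₁ := pullback.lift_fst _ _ _
    let τ : T' ⟶ W' := Over.homMk r.left (by
      have h1 : pr.left ≫ (snd C Y).left = T'.hom := Over.w pr
      change r.left ≫ y.left = T'.hom
      rw [← h1, ← Over.comp_left]
      change (r ≫ w ≫ snd C Y).left = (pr₁ ≫ snd C Y).left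
      rw [← Category.assoc, hr])
    have hτ : τ ≫ w' = pr := by
      apply Over.OverMorphism.ext
      have h3 : r.left ≫ w.left = pr₁.left := congrArg CommaMorphism.left hr
      exact h3
    have : IsSplitEpi ((Over.pullback x).map w') := ⟨⟨Sga3B.BcPts.bcEquiv x P W' τ, by
      rw [← Sga3B.BcPts.bcEquiv_comp, hτ]
      exact Equiv.apply_symm_apply _ _⟩⟩
    exact isIso_of_mono_of_isSplitEpi _
  have hiso' : IsIso w.left := inferInstanceAs (IsIso ((Over.forget _).map w'))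
  have hiso'' : IsIso w := by
    have : IsIso ((Over.forget S).map w) := hiso'
    exact isIso_of_reflects_iso w (Over.forget S)
  refine ⟨lift q t ≫ inv w ≫ wh, ?_⟩
  rw [← lift_kap]
  have h2 : w ≫ kap c g = wh ≫ i := pullback.condition
  simp only [Category.assoc]
  rw [← h2, IsIso.inv_hom_id_assoc]

end K16.TranspNil
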