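import Groth.Agent.SGA3x.K16.CartReg
import Groth.Agent.SGA3x.K16.TranspNil
import Groth.Agent.Sga3B.AlgBc2

/-!
# The transporter of a Cartan subgroup into a smooth subgroup is smooth
-/

set_option autoImplicit false
universe u
open CategoryTheory MonoidalCategory CartesianMonoidalCategory MonObj GrpObj AlgebraicGeometry Limits

namespace K16.TranspSmooth

open Groth.Agent Groth.Agent.Sga3B Groth.Agent.Sga3B.DSPts Groth.Agent.Sga3B.InfConjFam Groth.Agent.Sga3.H797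
  Groth.Agent.Sga3.H797.HomFin Groth.Agent.Sga3.H773.FinCent Groth.Agent.Sga3.H773.ToBc
  Groth.Agent.Sga3.H773.RegLoc Groth.Agent.Sga3.H773.ConjReg Groth.Agent.Sga3.H773.CartanFacts
  Groth.Agent.Sga3.H773.CartCent Groth.Agent.Sga3.H773.LocConj TranspNil

variable {S : Scheme.{u}} {G H C M : Over S} [GrpObj G] [GrpObj H] [GrpObj C] [Smooth G.hom] [IsSeparated G.hom]
  [Smooth H.hom] (c : C ⟶ G) [IsMonHom c] [Mono c] [Smooth C.hom] (i : H ⟶ G) [IsMonHom i] [Mono i]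
  (m : M ⟶ G) [Mono m]
  (hM : ∀ (X : Over S) (g : X ⟶ G), (∃ z : X ⟶ M, z ≫ m = g) ↔
        ∀ (X' : Over S) (x : X' ⟶ X) (y : X' ⟶ C), ∃ h : X' ⟶ H, (x ≫ g) * (y ≫ c) * (x ≫ g)⁻¹ = h ≫ i)

include hM in
/-- Infinitesimal lifting for the transporter, over a local base with a regular homomorphism. -/
theorem exists_lift {B : Type u} [CommRing B] [IsLocalRing B] (I : Ideal B) (hI : I * I = ⊥)
    (x : Spec (CommRingCat.of B) ⟶ S) {Γ : Type} [CommGroup Γ] [Finite Γ] (φ : Γ →* (Over.mk x ⟶ C))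
    (hn : Inv (Nat.card Γ) (Spec (CommRingCat.of B))) (hreg : Reg c φ) (hcent : Central φ)
    (α₀ : Over.mk (Spec.map (CommRingCat.ofHom (Ideal.Quotient.mk I)) ≫ x) ⟶ M) :
    ∃ a : Over.mk x ⟶ M, redMap x I ≫ a = α₀ := by
  have hsepH : IsSeparated H.hom := isSeparated_of_mono (c := i)
  obtain ⟨g₁, hg₁⟩ := exists_lift_pt I hI x (α₀ ≫ m)
  have hg₀ := (hM _ (α₀ ≫ m)).1 ⟨α₀, rfl⟩
  -- the conjugate homomorphism modulo `I`
  choose f₀ hf₀ using fun γ => hg₀ _ (𝟙 _) (redMap x I ≫ φ γ)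
  have hf₀' : ∀ γ, (α₀ ≫ m) * (redMap x I ≫ φ γ ≫ c) * (α₀ ≫ m)⁻¹ = f₀ γ ≫ i := fun γ => by
    have := hf₀ γ
    rwa [Category.id_comp, Category.assoc] at this
  let ψ₀ : Γ →* (Over.mk (Spec.map (CommRingCat.ofHom (Ideal.Quotient.mk I)) ≫ x) ⟶ H) := MonoidHom.mk' f₀ fun a b => by
    rw [← cancel_mono i, MonObj.mul_comp, ← hf₀', ← hf₀', ← hf₀', map_mul, MonObj.mul_comp, MonObj.comp_mul]
    group
  choose e he using fun γ => exists_lift_pt (X := H) I hI x (ψ₀ γ)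
  obtain ⟨ψ, hψ⟩ := LocKer.exists_lift_hom x H hI hn.isUnit ψ₀ e he
  let ψ₁ : Γ →* (Over.mk x ⟶ G) := MonoidHom.mk' (fun γ => g₁ * (φ γ ≫ c) * g₁⁻¹) fun a b => by
    rw [map_mul, MonObj.mul_comp]
    group
  let ψ₂ : Γ →* (Over.mk x ⟶ G) := MonoidHom.mk' (fun γ => ψ γ ≫ i) fun a b => by
    rw [map_mul, MonObj.mul_comp]
  obtain ⟨w, hw1, hw2⟩ := LocKer.exists_conj_hom x G hI hn.isUnit ψ₁ ψ₂ (fun γ => by
    change redMap x I ≫ (g₁ * (φ γ ≫ c) * g₁⁻¹) = redMap x I ≫ ψ γ ≫ i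
    rw [MonObj.comp_mul, MonObj.comp_mul, GrpObj.comp_inv, hg₁, hf₀', ← Category.assoc (redMap x I) (ψ γ) i, hψ]
    rfl)
  let g : Over.mk x ⟶ G := w * g₁
  have hgφ : ∀ γ, g * (φ γ ≫ c) * g⁻¹ = ψ γ ≫ i := fun γ => by
    have h1 : ψ γ ≫ i = w * (g₁ * (φ γ ≫ c) * g₁⁻¹) * w⁻¹ := hw2 γ
    rw [h1]
    change (w * g₁) * (φ γ ≫ c) * (w * g₁)⁻¹ = _
    group
  have hg₀' : redMap x I ≫ g = α₀ ≫ m := by
    change redMap x I ≫ (w * g₁) = _
    rw [MonObj.comp_mul, hw1, hg₁, _root_.one_mul]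
  have hsurj : Surjective (redMap x I).left := by
    change Surjective (Spec.map (CommRingCat.ofHom (Ideal.Quotient.mk I)))
    have hnil : I ≤ nilradical B := fun b hb => by
      refine ⟨2, ?_⟩
      have := Ideal.mul_mem_mul hb hb
      rw [hI] at this
      rw [pow_two]
      exact this
    have hr : Set.range (PrimeSpectrum.comap (Ideal.Quotient.mk I)) = Set.univ := by
      rw [range_comap_of_surjective _ _ Ideal.Quotient.mk_surjective, Ideal.mk_ker,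
        Set.eq_univ_iff_forall]
      intro p
      exact hnil.trans (nilradical_le_prime p.asIdeal)
    refine ⟨fun p => ?_⟩
    obtain ⟨q, hq⟩ : p ∈ Set.range (PrimeSpectrum.comap (Ideal.Quotient.mk I)) := by
      rw [hr]; trivial
    exact ⟨q, hq⟩
  obtain ⟨a, ha⟩ := (hM _ g).2 (fun X' t y =>
    factor_of_surjective c i φ g ψ hgφ hn hreg hcent (redMap x I) (fun T t q => by
      have := hg₀ T t q
      rw [hg₀']
      exact this) X' t y)
  refine ⟨a, ?_⟩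
  rw [← cancel_mono m, Category.assoc, ha, hg₀']

include hM in
/-- **The transporter of a Cartan subgroup into a smooth subgroup is smooth.** -/
theorem smooth_transporter [LocallyOfFinitePresentation M.hom]
    (h : ∀ s : S, ∃ (W : Over S) (_ : Etale W.hom) (_ : s ∈ Set.range W.hom) (Γ : Type) (_ : CommGroup Γ) (_ : Finite Γ)
      (φ : Γ →* (W ⟶ C)), Inv (Nat.card Γ) W.left ∧ Reg c φ ∧ Central φ) : Smooth M.hom := by
  choose W hW hsW Γ hΓ1 hΓ2 φ hn hreg hcent using h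
  let X : S → Scheme.{u} := fun s => (W s).left
  let f : (∐ X) ⟶ S := Sigma.desc fun s => (W s).hom
  have hf : ∀ s, Sigma.ι X s ≫ f = (W s).hom := fun s => Sigma.ι_desc _ _
  have hfe : Etale f := by
    rw [IsZariskiLocalAtSource.iff_of_openCover (P := @Etale) (sigmaOpenCover X)]
    intro s
    change Etale (Sigma.ι X s ≫ f)
    rw [hf]
    exact hW s
  have hfs : Surjective f := by
    refine ⟨fun s => ?_⟩
    obtain ⟨w, hw⟩ := hsW s
    refine ⟨Sigma.ι X s w, ?_⟩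
    rw [← Scheme.Hom.comp_apply, hf, hw]
  refine LocalLift.smooth_of_local_lift_fpqc M f (AlgBc.qc_cover_of_isOpenMap f f.isOpenMap) fun s' => ?_
  obtain ⟨j, w, hw⟩ : ∃ (j : S) (w : X j), Sigma.ι X j w = s' := by
    obtain ⟨j, w, hw⟩ := (sigmaOpenCover X).exists_eq s'
    exact ⟨j, w, hw⟩
  refine ⟨(Sigma.ι X j).opensRange, ⟨w, hw⟩, fun B _ _ I hI α β hβ => ?_⟩
  let β' : Spec (CommRingCat.of B) ⟶ X j := IsOpenImmersion.lift (Sigma.ι X j) (β ≫ (Sigma.ι X j).opensRange.ι) (by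
    rintro _ ⟨p, rfl⟩
    rw [Scheme.Hom.comp_apply]
    exact (β p).2)
  have hβ' : β' ≫ Sigma.ι X j = β ≫ (Sigma.ι X j).opensRange.ι := IsOpenImmersion.lift_fac _ _ _
  obtain ⟨x, hx⟩ : ∃ x : Spec (CommRingCat.of B) ⟶ S, x = β' ≫ (W j).hom := ⟨_, rfl⟩
  have hx' : x = β ≫ (Sigma.ι X j).opensRange.ι ≫ f := by
    rw [hx, ← hf, ← Category.assoc, hβ', Category.assoc]
  let b : Over.mk x ⟶ W j := Over.homMk β' hx.symm
  let α₀ : Over.mk (Spec.map (CommRingCat.ofHom (Ideal.Quotient.mk I)) ≫ x) ⟶ M := Over.homMk α (by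
    change α ≫ M.hom = _ ≫ x
    rw [hx', hβ])
  obtain ⟨a, ha⟩ := exists_lift c i m hM I hI x (pb b (φ j)) ((hn j).of_hom β') ((hreg j).comp b)
    (fun T t q γ => by
      have := hcent j T (t ≫ b) q γ
      rwa [Category.assoc] at this) α₀
  refine ⟨a.left, congrArg CommaMorphism.left ha, ?_⟩
  rw [← hx']
  exact Over.w a

end K16.TranspSmooth
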