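import Groth.Agent.Sga3.H773.LocConj

/-!
# Cartan subgroups have regular homomorphisms from finite groups, locally for the étale topology
-/

set_option autoImplicit false
universe u
open CategoryTheory MonoidalCategory CartesianMonoidalCategory MonObj GrpObj AlgebraicGeometry Limits

namespace K16.CartReg

open Groth.Agent Groth.Agent.Sga3B Groth.Agent.Sga3B.DSPts Groth.Agent.Sga3B.InfConjFam Groth.Agent.Sga3.H797
  Groth.Agent.Sga3.H797.HomFin Groth.Agent.Sga3.H773.FinCent Groth.Agent.Sga3.H773.ToBc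
  Groth.Agent.Sga3.H773.RegLoc Groth.Agent.Sga3.H773.ConjReg Groth.Agent.Sga3.H773.CartanFacts
  Groth.Agent.Sga3.H773.CartCent Groth.Agent.Sga3.H773.LocConj

variable {S : Scheme.{u}}

/-- A morphism from the spectrum of a local ring which meets an open subset modulo a square-zero ideal factors through
it. -/
theorem range_subset_of_local {B : Type u} [CommRing B] [IsLocalRing B] (I : Ideal B) (hI : I * I = ⊥)
    (β : Spec (CommRingCat.of B) ⟶ S) (V : S.Opens)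
    (h : ∀ p, (Spec.map (CommRingCat.ofHom (Ideal.Quotient.mk I)) ≫ β) p ∈ V) : ∀ p, β p ∈ V := by
  have hne : I ≠ ⊤ := by
    rintro rfl
    rw [Ideal.top_mul] at hI
    exact top_ne_bot hI
  have : Nontrivial (B ⧸ I) := Ideal.Quotient.nontrivial_iff.mpr hne
  have hloc : IsLocalRing (B ⧸ I) := IsLocalRing.of_surjective' (Ideal.Quotient.mk I) Ideal.Quotient.mk_surjective
  have hlh : IsLocalHom (Ideal.Quotient.mk I) := IsLocalHom.of_surjective _ Ideal.Quotient.mk_surjective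
  have h1 : (Spec.map (CommRingCat.ofHom (Ideal.Quotient.mk I))) (IsLocalRing.closedPoint (B ⧸ I)) =
      IsLocalRing.closedPoint B := IsLocalRing.comap_closedPoint (Ideal.Quotient.mk I)
  have h2 : β (IsLocalRing.closedPoint B) ∈ V := by
    have := h (IsLocalRing.closedPoint (B ⧸ I))
    rwa [Scheme.Hom.comp_apply, h1] at this
  have h3 : IsLocalRing.closedPoint B ∈ (β ⁻¹ᵁ V) := h2
  have h4 : (β ⁻¹ᵁ V) = ⊤ := (IsLocalRing.closed_point_mem_iff (U := β ⁻¹ᵁ V)).mp h3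
  intro p
  have h5 : p ∈ (β ⁻¹ᵁ V) := by rw [h4]; trivial
  exact h5

theorem smooth_rep_open {G H : Over S} [GrpObj G] {Γ : Type*} [Group Γ] [Finite Γ] {υ : Γ →* (H ⟶ G)}
    (hH : IsHomScheme G Γ H υ) [Smooth G.hom] [LocallyOfFinitePresentation H.hom] (V : S.Opens)
    (hn : Inv (Nat.card Γ) (V : Scheme.{u})) : Smooth ((H.hom ⁻¹ᵁ V).ι ≫ H.hom) := by
  apply Groth.Agent.Sga3B.LocalLift.smooth_of_local_lift
  intro B _ _ I hI α β h
  have hβV : ∀ p, β p ∈ V := range_subset_of_local I hI β V fun p => by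
    rw [h, Scheme.Hom.comp_apply, Scheme.Hom.comp_apply]
    exact (α p).2
  let β' : Spec (CommRingCat.of B) ⟶ (V : Scheme.{u}) := IsOpenImmersion.lift V.ι β (by
    rw [Scheme.Opens.range_ι]
    rintro _ ⟨p, rfl⟩
    exact hβV p)
  let α₀ : Over.mk (Spec.map (CommRingCat.ofHom (Ideal.Quotient.mk I)) ≫ β) ⟶ H :=
    Over.homMk (α ≫ (H.hom ⁻¹ᵁ V).ι) (by rw [Category.assoc]; exact h.symm)
  let φ : Γ →* (Over.mk (Spec.map (CommRingCat.ofHom (Ideal.Quotient.mk I)) ≫ β) ⟶ G) :=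
    (InfChart.pre G α₀).comp υ
  choose g hg using fun γ => exists_lift_pt I hI β (φ γ)
  obtain ⟨ψ, hψ⟩ := LocKer.exists_lift_hom β G hI (hn.of_hom β').isUnit φ g hg
  obtain ⟨t, ht, -⟩ := hH.existsUnique _ ψ
  have h1 : redMap β I ≫ t = α₀ :=
    (hH.existsUnique _ φ).unique (fun γ => by rw [Category.assoc, ht, hψ]) (fun γ => rfl)
  have htw : t.left ≫ H.hom = β := Over.w t
  let γ₀ : Spec (CommRingCat.of B) ⟶ ((H.hom ⁻¹ᵁ V : H.left.Opens) : Scheme.{u}) :=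
    IsOpenImmersion.lift (H.hom ⁻¹ᵁ V).ι t.left (by
      rw [Scheme.Opens.range_ι]
      rintro _ ⟨p, rfl⟩
      change H.hom (t.left p) ∈ V
      rw [← Scheme.Hom.comp_apply, htw]
      exact hβV p)
  have hγ₀ : γ₀ ≫ (H.hom ⁻¹ᵁ V).ι = t.left := IsOpenImmersion.lift_fac _ _ _
  refine ⟨γ₀, ?_, ?_⟩
  · rw [← cancel_mono (H.hom ⁻¹ᵁ V).ι, Category.assoc, hγ₀]
    exact congrArg CommaMorphism.left h1
  · rw [← Category.assoc, hγ₀]
    exact htw

variable {G C : Over S} [GrpObj G] [GrpObj C] [Smooth G.hom] [QuasiCompact G.hom]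
  [GeometricallyIrreducible G.hom] [IsSeparated G.hom] {c : C ⟶ G}

/-- Locally for the étale topology, a Cartan subgroup is open in the centralizer of a finite group of sections, of
invertible order. -/
theorem exists_etale_reg (F : Facts.{u}) (hc : SGA3x.IsCartan c) (s : S) :
    ∃ (W : Over S) (_ : Etale W.hom) (_ : s ∈ Set.range W.hom) (Γ : Type) (_ : CommGroup Γ) (_ : Finite Γ)
      (φ : Γ →* (W ⟶ C)), Inv (Nat.card Γ) W.left ∧ Reg c φ ∧ Central φ := by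
  have hm₁ := hc.1
  have hm₁' := hc.2.1
  have hs₁ := hc.2.2.1
  have hsep₁ : IsSeparated C.hom := isSeparated_of_mono (c := c)
  obtain ⟨l, hl, V, hsV, hV⟩ := exists_prime_nhd s
  have hgs : ∀ z, (Red.geomPt s) z = s := fun z => by
    rw [Red.geomPt, Scheme.Hom.comp_apply]
    exact Scheme.fromSpecResidueField_apply _ _
  -- the geometric point
  let X : Over S := Over.mk (Red.geomPt s)
  have hK := F.point S G C fibre_conn c hc _ (Red.geomPt s)
  let xV : Spec (CommRingCat.of (AlgebraicClosure (S.residueField s))) ⟶ (V : Scheme.{u}) :=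
    IsOpenImmersion.lift V.ι (Red.geomPt s) (by
      rw [Scheme.Opens.range_ι]
      rintro _ ⟨z, rfl⟩
      rw [hgs]
      exact hsV)
  obtain ⟨Γ, _, _, φ₀, ⟨m, hm⟩, hΓ⟩ := F.tors _ _ _ _ hK l hl (ne_zero_of_inv hV xV)
  have hn' : Inv (Nat.card Γ) (V : Scheme.{u}) := by
    rw [hm]; exact inv_pow hV m
  let φ₁ : Γ →* (X ⟶ C) := (toPt C X).symm.toMonoidHom.comp φ₀
  have hfac : ∀ (T : Over S) (t : T ⟶ X) (g : T ⟶ G),
      (∀ γ, g * (t ≫ φ₁ γ ≫ c) = (t ≫ φ₁ γ ≫ c) * g) → ∃ q : T ⟶ C, q ≫ c = g :=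
    factor_of_cent (X := X) φ₀ fun T g hg => (hΓ T g).2 hg
  have hreg : Reg c φ₁ := reg_of_factor hfac
  obtain ⟨H, υ, hH, hHsep, hHlfp, -⟩ := exists_rep C Γ
  have hlf := hHlfp inferInstance
  have hO : Smooth ((H.hom ⁻¹ᵁ V).ι ≫ H.hom) := smooth_rep_open hH V hn'
  let Y : Over S := Over.mk ((H.hom ⁻¹ᵁ V).ι ≫ H.hom)
  let o : Y ⟶ H := Over.homMk (H.hom ⁻¹ᵁ V).ι rfl
  let υ' : Γ →* (Y ⟶ C) := pb o υ
  have hnY : Inv (Nat.card Γ) Y.left := hn'.of_hom (IsOpenImmersion.lift V.ι ((H.hom ⁻¹ᵁ V).ι ≫ H.hom) (by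
    rw [Scheme.Opens.range_ι]
    rintro _ ⟨p, rfl⟩
    rw [Scheme.Hom.comp_apply]
    exact p.2))
  obtain ⟨U, hU⟩ := exists_locus c υ' hnY (central F hc υ' hnY)
  obtain ⟨τ, hτ, -⟩ := hH.existsUnique X φ₁
  have hτw : τ.left ≫ H.hom = Red.geomPt s := Over.w τ
  let τ' : X ⟶ Y := Over.homMk (IsOpenImmersion.lift (H.hom ⁻¹ᵁ V).ι τ.left (by
    rw [Scheme.Opens.range_ι]
    rintro _ ⟨z, rfl⟩
    change H.hom (τ.left z) ∈ V
    rw [← Scheme.Hom.comp_apply, hτw, hgs]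
    exact hsV)) (by
    change _ ≫ (H.hom ⁻¹ᵁ V).ι ≫ H.hom = _
    rw [IsOpenImmersion.lift_fac_assoc]
    exact hτw)
  have hτo : τ' ≫ o = τ := by
    apply Over.OverMorphism.ext
    exact IsOpenImmersion.lift_fac _ _ _
  have hp : pb τ' υ' = φ₁ := MonoidHom.ext fun γ => by
    change τ' ≫ o ≫ υ γ = φ₁ γ
    rw [← Category.assoc, hτo, hτ]
  have hmem : ∀ z, τ'.left z ∈ U := by
    rw [← hU, hp]; exact hreg
  have hYs : Smooth Y.hom := hO
  have hsm : Smooth (U.ι ≫ Y.hom) := inferInstance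
  have hsr : s ∈ Set.range (U.ι ≫ Y.hom) := by
    obtain ⟨z⟩ : Nonempty X.left := inferInstanceAs (Nonempty (Spec _))
    refine ⟨⟨τ'.left z, hmem z⟩, ?_⟩
    have h4 : (U.ι ≫ Y.hom) ⟨τ'.left z, hmem z⟩ = Y.hom (τ'.left z) := Scheme.Hom.comp_apply _ _ _
    rw [h4, ← Scheme.Hom.comp_apply, Over.w τ']
    exact hgs z
  obtain ⟨W', gW, w, hgW, hw, hh, hhW⟩ := FlatA.EtaleSections.exists_section (U.ι ≫ Y.hom) s hsr
  let W : Over S := Over.mk gW
  let t : W ⟶ Y := Over.homMk (hh ≫ U.ι) (by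
    rw [Category.assoc]
    exact hhW)
  have htU : ∀ z, t.left z ∈ U := fun z => by
    change (hh ≫ U.ι) z ∈ U
    rw [Scheme.Hom.comp_apply]
    exact (hh z).2
  refine ⟨W, hgW, ⟨w, hw⟩, Γ, inferInstance, inferInstance, pb t υ', hnY.of_hom t.left, ?_,
    central F hc _ (hnY.of_hom t.left)⟩
  rw [hU]
  exact htU

end K16.CartReg
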