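import Groth.Agent.SGA3x.K16.FixLift
import Groth.Agent.Sga3B.BcPts
import Groth.Prelude.Def_ActBC

/-!
# Lifting fixed points: families over a local base

`fixLift_family`: an `S`-group `G` acting on a separated `S`-scheme `X`, `x : Spec B ⟶ S` with `B` local and
`G` diagonalisable over `B`; a `B`-point of `X` which is fixed modulo a square-zero ideal can be modified to a fixed point.
-/

set_option autoImplicit false
universe u
open CategoryTheory MonoidalCategory CartesianMonoidalCategory MonObj GrpObj AlgebraicGeometry Limits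

namespace K16.FixFam

open Groth.Agent Groth.Agent.Sga3B Groth.Agent.Sga3B.InfConj Groth.Agent.Sga3B.InfConjFam BcPts

/-- A section over a local base is contained in an affine open. -/
lemma exists_affine_nhd {B : Type u} [CommRing B] [IsLocalRing B]
    (X : Scheme.{u}) (y : Spec (CommRingCat.of B) ⟶ X) :
    ∃ (D : CommRingCat.{u}) (j : Spec D ⟶ X), IsOpenImmersion j ∧ Set.range y ⊆ Set.range j := by
  obtain ⟨_, ⟨U, hU, rfl⟩, hxU, -⟩ := X.isBasis_affineOpens.exists_subset_of_mem_open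
    (Set.mem_univ (y (IsLocalRing.closedPoint B))) isOpen_univ
  refine ⟨Γ(X, U), hU.fromSpec, hU.isOpenImmersion_fromSpec, ?_⟩
  rw [hU.range_fromSpec]
  rintro _ ⟨z, rfl⟩
  have h1 : IsLocalRing.closedPoint B ∈ (y ⁻¹ᵁ U) := hxU
  have h2 : (y ⁻¹ᵁ U) = ⊤ := (IsLocalRing.closed_point_mem_iff (U := y ⁻¹ᵁ U)).mp h1
  have h3 : z ∈ y ⁻¹ᵁ U := by rw [h2]; trivial
  exact h3

variable {S : Scheme.{u}} {G X : Over S} [GrpObj G] (a : AlgGrp.Action G X)

lemma bcEquiv_act {S' : Scheme.{u}} (x : S' ⟶ S) {T : Over S'} (g : T ⟶ Red.bc x G) (z : T ⟶ Red.bc x X) :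
    lift g z ≫ (a.bc x).act =
      bcEquiv x T X (lift ((bcEquiv x T G).symm g) ((bcEquiv x T X).symm z) ≫ a.act) := by
  have h := a.lift_homEquiv_bc_act x ((bcEquiv x T G).symm g) ((bcEquiv x T X).symm z)
  change lift (bcEquiv x T G ((bcEquiv x T G).symm g)) (bcEquiv x T X ((bcEquiv x T X).symm z)) ≫
    (a.bc x).act = bcEquiv x T X _ at h
  rw [Equiv.apply_symm_apply, Equiv.apply_symm_apply] at h
  exact h

theorem fixLift_family {B : Type u} [CommRing B] [IsLocalRing B] (I : Ideal B) (hI : I * I = ⊥)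
    (x : Spec (CommRingCat.of B) ⟶ S) [IsSeparated X.hom] {M : Type} [AddCommGroup M]
    (e : Grp.mk (Red.bc x G) ≅ Grp.mk (Red.DS (Spec (CommRingCat.of B)) M))
    (y : Over.mk x ⟶ X)
    (hy : ∀ (T : Over S) (t : T ⟶ Over.mk (Spec.map (CommRingCat.ofHom (Ideal.Quotient.mk I)) ≫ x))
      (g : T ⟶ G), lift g (t ≫ redMap x I ≫ y) ≫ a.act = t ≫ redMap x I ≫ y) :
    ∃ w : Over.mk x ⟶ X, redMap x I ≫ w = redMap x I ≫ y ∧
      ∀ (T : Over S) (t : T ⟶ Over.mk x) (g : T ⟶ G), lift g (t ≫ w) ≫ a.act = t ≫ w := by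
  let φ : Red.DS (Spec (CommRingCat.of B)) M ⟶ Red.bc x G := e.inv.hom.hom
  have hφ : IsMonHom φ := e.inv.hom.isMonHom_hom
  let ψ : Red.bc x G ⟶ Red.DS (Spec (CommRingCat.of B)) M := e.hom.hom.hom
  have hψφ : ψ ≫ φ = 𝟙 _ := congrArg (fun f => f.hom.hom) e.hom_inv_id
  let b : AlgGrp.Action (Red.DS (Spec (CommRingCat.of B)) M) (Red.bc x X) := (a.bc x).restrict φ
  have hb : ∀ {T : Over (Spec (CommRingCat.of B))} (q : T ⟶ Red.DS (Spec (CommRingCat.of B)) M)
      (z : T ⟶ Red.bc x X), lift q z ≫ b.act =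
        bcEquiv x T X (lift ((bcEquiv x T G).symm (q ≫ φ)) ((bcEquiv x T X).symm z) ≫ a.act) := by
    intro T q z
    rw [← bcEquiv_act]
    exact AlgGrp.Action.lift_restrict_act φ (a.bc x) q z
  let y' : pt B B ⟶ Red.bc x X := bcEquiv x _ X (st x _ ≫ y)
  have hy' : ∀ {T : Over (Spec (CommRingCat.of B))} (h : T ⟶ pt B B),
      h ≫ y' = bcEquiv x T X (st x T ≫ y) := by
    intro T h
    rw [← comp_bcEquiv, st_comp x h, Category.assoc]
  obtain ⟨D, j, hj, hj'⟩ := exists_affine_nhd (Red.bc x X).left y'.left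
  have hsep : IsSeparated (Red.bc x X).hom := inferInstanceAs (IsSeparated (pullback.snd _ _))
  obtain ⟨w₀, hw1, hw2⟩ := FixLift.fixLift_base I hI M (Red.bc x X) D j b y' hj' (by
    intro E _ _ q hE
    rw [hb, hy', Equiv.symm_apply_apply]
    congr 1
    let r : (Over.map x).obj (pt B E) ⟶ Over.mk (Spec.map (CommRingCat.ofHom (Ideal.Quotient.mk I)) ≫ x) :=
      Over.homMk (Spec.map (CommRingCat.ofHom (Ideal.Quotient.lift I (algebraMap B E) hE))) (by
        simp only [Over.mk_hom, Over.map_obj_hom, ← Category.assoc, ← Spec.map_comp, ← CommRingCat.ofHom_comp]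
        congr 3)
    have hr : st x (pt B E) = r ≫ redMap x I := by
      ext1
      simp only [st, redMap, Over.comp_left, Over.homMk_left, r, ← Spec.map_comp, ← CommRingCat.ofHom_comp]
      rfl
    rw [hr, Category.assoc, hy])
  have hBB : Spec.map (CommRingCat.ofHom (algebraMap B B)) = 𝟙 _ := Spec.map_id _
  let u : Over.mk x ⟶ (Over.map x).obj (pt B B) := Over.homMk (𝟙 _) (by
    simp only [Over.map_obj_hom, Over.mk_hom]
    erw [Category.id_comp]
    rw [hBB]
    exact Category.id_comp _)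
  have hu : u ≫ st x (pt B B) = 𝟙 _ := by
    ext1
    simp only [u, st, Over.comp_left, Over.homMk_left, Over.id_left]
    erw [Category.id_comp]
    exact hBB
  refine ⟨u ≫ (bcEquiv x _ X).symm w₀, ?_, ?_⟩
  · have h5 := hw1 (B ⧸ I) (fun i hi => Ideal.Quotient.eq_zero_iff_mem.mpr hi)
    let r : Over.mk (Spec.map (CommRingCat.ofHom (Ideal.Quotient.mk I)) ≫ x) ⟶ (Over.map x).obj (pt B (B ⧸ I)) :=
      Over.homMk (𝟙 _) (Category.id_comp _)
    have h6 : redMap x I ≫ u = r ≫ (Over.map x).map (ptMap (Algebra.ofId B (B ⧸ I))) := by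
      ext1
      simp only [redMap, u, r, Over.comp_left, Over.homMk_left, Over.map_map_left]
      erw [Category.id_comp, Category.comp_id]
      rfl
    have h7 : redMap x I ≫ y = redMap x I ≫ u ≫ st x (pt B B) ≫ y := by
      rw [← Category.assoc u, hu, Category.id_comp]
    have h8 : (bcEquiv x _ X).symm y' = st x (pt B B) ≫ y := Equiv.symm_apply_apply _ _
    rw [h7, ← h8, ← Category.assoc, ← Category.assoc, h6, Category.assoc, Category.assoc,
      ← comp_bcEquiv_symm, ← comp_bcEquiv_symm, h5]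
  · intro T t g
    let T' : Over (Spec (CommRingCat.of B)) := Over.mk t.left
    let t' : T' ⟶ pt B B := Over.homMk t.left (by
      have h3 : (pt B B).hom = 𝟙 _ := Spec.map_id _
      rw [h3]
      exact Category.comp_id _)
    let i := overIso t
    let q' : T' ⟶ Red.DS (Spec (CommRingCat.of B)) M := bcEquiv x T' G (i.hom ≫ g) ≫ ψ
    have h1 := hw2 T' q' t'
    rw [hb] at h1
    have h2 : q' ≫ φ = bcEquiv x T' G (i.hom ≫ g) := by
      simp only [q', Category.assoc, hψφ, Category.comp_id]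
    rw [h2, Equiv.symm_apply_apply, ← Equiv.eq_symm_apply, comp_bcEquiv_symm] at h1
    have h3 : (Over.map x).map t' = i.hom ≫ t ≫ u := by
      ext1
      simp only [Over.map_map_left, i, t', u, Over.comp_left, Over.homMk_left, overIso]
      erw [Category.comp_id]
      exact (Category.id_comp _).symm
    rw [h3, Category.assoc, Category.assoc, ← comp_lift_assoc] at h1
    exact (cancel_epi i.hom).1 h1

end K16.FixFam
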