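import Groth.Agent.Sga3B.InfConjFam
import Groth.Agent.Sga3C.Transl

/-!
# Lifting fixed points of diagonalisable group actions over square-zero thickenings

`fixLift_base`: `I` a square-zero ideal of `C`, `X` separated over `Spec C` with an action of `D(M)`, `x` a section of `X`
which is fixed modulo `I`, contained in an affine open of `X`.  Then there is a fixed section `w` of `X` congruent to `x`
modulo `I` (obtained by averaging).
-/

set_option autoImplicit false
universe u
open CategoryTheory MonoidalCategory CartesianMonoidalCategory MonObj GrpObj AlgebraicGeometry Limits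

namespace K16.FixLift

open Groth.Agent Groth.Agent.Sga3B Groth.Agent.Sga3B.DSPts Groth.Agent.Sga3B.InfConj

variable {C : Type u} [CommRing C]

lemma exists_ringHom (X : Over (Spec (CommRingCat.of C))) (D : CommRingCat.{u}) (j : Spec D ⟶ X.left)
    [IsOpenImmersion j] (x : pt C C ⟶ X) (ε : D ⟶ CommRingCat.of C) (hε : x.left = Spec.map ε ≫ j)
    {E : Type u} [CommRing E] [Algebra C E] (J : Ideal E) (hJ : J * J = ⊥) (y : pt C E ⟶ X)
    (hy : ptMap (Ideal.Quotient.mkₐ C J) ≫ y = ptMap (Algebra.ofId C (E ⧸ J)) ≫ x) :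
    ∃ ξ : D ⟶ CommRingCat.of E, y.left = Spec.map ξ ≫ j ∧ ∀ d, ξ.hom d - algebraMap C E (ε.hom d) ∈ J := by
  have hx1 : Spec.map (CommRingCat.ofHom (Ideal.Quotient.mk J)) ≫ y.left =
      Spec.map (CommRingCat.ofHom (algebraMap C (E ⧸ J))) ≫ Spec.map ε ≫ j := by
    rw [← hε]
    exact congr($(hy).left)
  have hr : Set.range y.left ⊆ Set.range j := by
    rintro _ ⟨p, rfl⟩
    obtain ⟨p', rfl⟩ := specMap_quotient_surjective J hJ p
    refine ⟨Spec.map ε (Spec.map (CommRingCat.ofHom (algebraMap C (E ⧸ J))) p'), ?_⟩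
    have := congr($hx1 p')
    simpa using this.symm
  let l : Spec (CommRingCat.of E) ⟶ Spec D := IsOpenImmersion.lift j y.left hr
  have hl : l ≫ j = y.left := IsOpenImmersion.lift_fac j y.left hr
  refine ⟨Spec.preimage l, by rw [Spec.map_preimage, hl], fun d => ?_⟩
  rw [← hl, ← Category.assoc, ← Category.assoc, cancel_mono] at hx1
  have h2 : Spec.preimage l ≫ CommRingCat.ofHom (Ideal.Quotient.mk J) = ε ≫ CommRingCat.ofHom (algebraMap C (E ⧸ J)) := by
    apply Spec.map_injective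
    rw [Spec.map_comp, Spec.map_comp, Spec.map_preimage, hx1]
  rw [← Ideal.Quotient.eq]
  exact congr($h2 d)

/-- A point of `X` with values in `E`, congruent to `x` modulo a square-zero ideal `J`, comes from
the subring `C + J`. -/
lemma exists_lift (X : Over (Spec (CommRingCat.of C))) (D : CommRingCat.{u}) (j : Spec D ⟶ X.left)
    [IsOpenImmersion j] (x : pt C C ⟶ X) (hj : Set.range x.left ⊆ Set.range j)
    {E : Type u} [CommRing E] [Algebra C E] (J : Ideal E) (hJ : J * J = ⊥) (y : pt C E ⟶ X)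
    (hy : ptMap (Ideal.Quotient.mkₐ C J) ≫ y = ptMap (Algebra.ofId C (E ⧸ J)) ≫ x) (A : Subalgebra C E)
    (hA : ∀ (c : C) (e : E), e - algebraMap C E c ∈ J → e ∈ A) :
    ∃ z : pt C A ⟶ X, ptMap A.val ≫ z = y ∧
     ∀ (E' : Type u) [CommRing E'] [Algebra C E'] (φ : A →ₐ[C] E'),
      (∀ (c : C) (e : A), e.1 - algebraMap C E c ∈ J → φ e = algebraMap C E' c) →
        ptMap φ ≫ z = ptMap (Algebra.ofId C E') ≫ x := by
  obtain ⟨ε, hε⟩ : ∃ ε : D ⟶ CommRingCat.of C, x.left = Spec.map ε ≫ j := by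
    let l : Spec (CommRingCat.of C) ⟶ Spec D := IsOpenImmersion.lift j x.left hj
    refine ⟨Spec.preimage l, ?_⟩
    rw [Spec.map_preimage]
    exact (IsOpenImmersion.lift_fac j x.left hj).symm
  obtain ⟨ξ, hξ, hξ'⟩ := exists_ringHom X D j x ε hε J hJ y hy
  let ξA : D →+* A := ξ.hom.codRestrict A (fun d => hA _ _ (hξ' d))
  have hξA : CommRingCat.ofHom ξA ≫ CommRingCat.ofHom A.val.toRingHom = ξ := by
    ext d; rfl
  let z : pt C A ⟶ X := Over.homMk (Spec.map (CommRingCat.ofHom ξA) ≫ j) (by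
    obtain ⟨κ, hκ⟩ : ∃ κ : CommRingCat.of C ⟶ D, j ≫ X.hom = Spec.map κ := ⟨Spec.preimage _, by rw [Spec.map_preimage]⟩
    have h1 : Spec.map ξ ≫ j ≫ X.hom = Spec.map (CommRingCat.ofHom (algebraMap C E)) := by
      rw [← Category.assoc, ← hξ]
      exact Over.w y
    rw [hκ, ← Spec.map_comp] at h1
    have h2 := Spec.map_injective h1
    simp only [Over.mk_hom, Category.assoc]
    rw [hκ, ← Spec.map_comp]
    congr 1
    ext c
    exact congr($h2 c))
  have hz : z.left = Spec.map (CommRingCat.ofHom ξA) ≫ j := rfl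
  refine ⟨z, ?_, ?_⟩
  · ext1
    rw [Over.comp_left, ptMap_left, hz, hξ, ← Category.assoc, ← Spec.map_comp, hξA]
  · intro E' _ _ φ hφ
    ext1
    rw [Over.comp_left, ptMap_left, hz, ← Category.assoc, ← Spec.map_comp]
    have h3 : CommRingCat.ofHom ξA ≫ CommRingCat.ofHom φ.toRingHom = ε ≫ CommRingCat.ofHom (algebraMap C E') := by
      ext d
      exact hφ _ _ (hξ' d)
    rw [h3, Spec.map_comp, Category.assoc, ← hε]
    rfl

/-- **Lifting of fixed points.** -/
theorem fixLift_base (I : Ideal C) (hI : I * I = ⊥) (M : Type) [AddCommGroup M]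
    (X : Over (Spec (CommRingCat.of C))) [IsSeparated X.hom] (D : CommRingCat.{u}) (j : Spec D ⟶ X.left)
    [IsOpenImmersion j] (a : AlgGrp.Action (Red.DS (Spec (CommRingCat.of C)) M) X)
    (x : pt C C ⟶ X) (hj : Set.range x.left ⊆ Set.range j)
    (hx : ∀ (E : Type u) [CommRing E] [Algebra C E] (q : pt C E ⟶ Red.DS (Spec (CommRingCat.of C)) M),
      (∀ i ∈ I, algebraMap C E i = 0) →
        lift q (ptMap (Algebra.ofId C E) ≫ x) ≫ a.act = ptMap (Algebra.ofId C E) ≫ x) :
    ∃ w : pt C C ⟶ X,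
      (∀ (E : Type u) [CommRing E] [Algebra C E], (∀ i ∈ I, algebraMap C E i = 0) →
        ptMap (Algebra.ofId C E) ≫ w = ptMap (Algebra.ofId C E) ≫ x) ∧
      ∀ (T : Over (Spec (CommRingCat.of C))) (q : T ⟶ Red.DS (Spec (CommRingCat.of C)) M) (t : T ⟶ pt C C),
        lift q (t ≫ w) ≫ a.act = t ≫ w := by
  let q := univPt C M
  let c : pt C (MonoidAlgebra C (Multiplicative M)) ⟶ X :=
    lift q (ptMap (Algebra.ofId C _) ≫ x) ≫ a.act
  have hJ := extIdeal_mul C (Multiplicative M) I hI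
  have hc : ptMap (Ideal.Quotient.mkₐ C (extIdeal (Multiplicative M) I)) ≫ c =
      ptMap (Algebra.ofId C _) ≫ x := by
    have h1 : ptMap (Ideal.Quotient.mkₐ C (extIdeal (Multiplicative M) I)) ≫ ptMap (Algebra.ofId C _) =
        ptMap (Algebra.ofId C _) := pt_self_hom_ext _ _
    rw [← Category.assoc, comp_lift, ← Category.assoc, h1, hx]
    intro i hi
    rw [IsScalarTower.algebraMap_apply C (MonoidAlgebra C (Multiplicative M))]
    exact Ideal.Quotient.eq_zero_iff_mem.mpr (Ideal.mem_map_of_mem _ hi)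
  obtain ⟨cA, hcA, hcA'⟩ := exists_lift X D j x hj (extIdeal (Multiplicative M) I) hJ c hc (A₁ I) (fun c e h => ⟨c, h⟩)
  replace hcA : pVal₁ (Multiplicative M) I ≫ cA = c := hcA
  have hA₂ : Function.Injective (valA₂ (Γ := Multiplicative M) I) := Subtype.val_injective
  have key : pDgA (Multiplicative M) I ≫ cA =
      lift (pInc₁A (Multiplicative M) I ≫ q) (pInc₂A (Multiplicative M) I ≫ cA) ≫ a.act := by
    ext1
    refine ext_of_ker_eq_bot X.hom ((Over.w _).trans (Over.w _).symm) (pVal₂ (Multiplicative M) I).left (ker_specMap _ hA₂) ?_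
    rw [← Over.comp_left, ← Over.comp_left]
    congr 1
    rw [pVal₂_pDgA_assoc, comp_lift_assoc, pVal₂_pInc₁A_assoc, pVal₂_pInc₂A_assoc, hcA]
    have h4 := ptMap_dg_univPt (C := C) M
    change ptMap (dg C (Multiplicative M)) ≫ q = (ptMap (inc₁ C _) ≫ q) * (ptMap (inc₂ C _) ≫ q) at h4
    simp only [c]
    rw [comp_lift_assoc, comp_lift_assoc, h4, Sga3C.Transl.lift_mul_act, ← Category.assoc, ← Category.assoc]
    congr 5
    exact pt_self_hom_ext _ _
  let w₀ : pt C C ⟶ X := pAvg (Multiplicative M) I hI ≫ cA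
  let W : pt C (MonoidAlgebra C (Multiplicative M)) ⟶ X :=
    ptMap (Algebra.ofId C (MonoidAlgebra C (Multiplicative M))) ≫ w₀
  have hW : lift q W ≫ a.act = W := by
    have h5 := congr(pAvg₂ (Multiplicative M) I hI ≫ $key)
    rw [pAvg₂_pDgA_assoc, comp_lift_assoc, pAvg₂_pInc₁A_assoc, pAvg₂_pInc₂A_assoc] at h5
    exact h5.symm
  refine ⟨w₀, ?_, ?_⟩
  · intro E _ _ hE
    have h8 : ptMap (Algebra.ofId C E) ≫ pAvg (Multiplicative M) I hI =
      ptMap (E := A₁ (Γ := Multiplicative M) I) (E' := E) ((Algebra.ofId C E).comp (avg C (Multiplicative M) I hI)) := by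
      rw [pAvg, ptMap_comp]
    rw [← Category.assoc, h8]
    apply hcA'
    intro r e he
    have h9 := hE _ (avg_sub_mem I hI e r he)
    rw [map_sub, sub_eq_zero] at h9
    exact h9
  · intro T q' t
    obtain ⟨h, rfl⟩ := exists_eq_comp_charPt q'
    have h11 : h ≫ ptMap (Algebra.ofId C (MonoidAlgebra C (Multiplicative M))) = t :=
      pt_self_hom_ext (C := C) _ _
    rw [← h11, Category.assoc]
    change lift (h ≫ q) (h ≫ W) ≫ a.act = h ≫ W
    rw [← comp_lift, Category.assoc, hW]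

end K16.FixLift
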