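import Groth.Agent.SGA3x.K16.NormRep
import Groth.Agent.Sga3B.CentLift
import Groth.Agent.Sga3.H799.FibCrit
import Groth.Agent.Flat2H.FSSmoothHom

/-!
# A smooth subgroup containing the centralizer of one of its tori is open in its normalizer
-/

set_option autoImplicit false
universe u
open CategoryTheory MonoidalCategory CartesianMonoidalCategory MonObj GrpObj AlgebraicGeometry

namespace K16.NormOpen

open Groth.Agent Groth.Agent.Sga3B CentRep InfConj InfConjFam DSPts DSRigid CentLift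

variable {S : Scheme.{u}}

section conj

variable {G H Q : Over S} [GrpObj G] [GrpObj H] [GrpObj Q] (i : H ⟶ G) [IsMonHom i] [Mono i]
  (q : Q ⟶ H) [IsMonHom q] [IsSeparated H.hom]
  {B : Type u} [CommRing B] [IsLocalRing B] (I : Ideal B) (hI : I * I = ⊥)
  (x : Spec (CommRingCat.of B) ⟶ S) {M : Type} [AddCommGroup M]
  (hQ : Red.IsSplitTorusWith M (Red.bc x Q))

include hI hQ

/-- A point `g` of `G`, trivial modulo `I`, which conjugates the torus `Q ⊂ H` into `H`, is the product of a point of `H`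
trivial modulo `I` and of a point centralizing `Q`. -/
theorem exists_conj (g : Over.mk x ⟶ G)
    (hg : ∀ (T : Over S) (t : T ⟶ Over.mk x) (h : T ⟶ Q), ∃ h' : T ⟶ H,
      (t ≫ g) * (h ≫ q ≫ i) * (t ≫ g)⁻¹ = h' ≫ i)
    (h₁ : redMap x I ≫ g = 1) :
    ∃ w : Over.mk x ⟶ H, redMap x I ≫ w = 1 ∧ (w ≫ i)⁻¹ * g ∈ centPts (q ≫ i) _ := by
  obtain ⟨e, he, ψ, hψ1, hψ2⟩ := exists_isIsoFamily x hQ
  obtain ⟨a, ha0⟩ := hg (Red.DS S M ⊗ Over.mk x) (snd _ _) e
  let b : Red.DS S M ⊗ Over.mk x ⟶ H := e ≫ q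
  have ha' : ∀ (T : Over S) (d : T ⟶ Red.DS S M) (t : T ⟶ Over.mk x),
      (lift d t ≫ a) ≫ i = (t ≫ g) * ((lift d t ≫ e ≫ q) ≫ i) * (t ≫ g)⁻¹ := by
    intro T d t
    rw [Category.assoc, ← ha0]
    simp only [MonObj.comp_mul, GrpObj.comp_inv, lift_snd_assoc, Category.assoc]
  have hb' : ∀ (T : Over S) (d : T ⟶ Red.DS S M) (t : T ⟶ Over.mk x),
      lift d t ≫ b = lift d t ≫ e ≫ q := fun _ _ _ => rfl
  have hb : AutFam.IsHomFamily (Red.DS S M) H b := by
    intro T d₁ d₂ t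
    rw [hb', hb', hb', ← Category.assoc, he, MonObj.mul_comp, Category.assoc, Category.assoc]
  have ha : AutFam.IsHomFamily (Red.DS S M) H a := by
    intro T d₁ d₂ t
    have h3 := hb T d₁ d₂ t
    rw [hb' T (d₁ * d₂), hb' T d₁, hb' T d₂] at h3
    rw [← cancel_mono i, MonObj.mul_comp, ha', ha', ha', h3, MonObj.mul_comp]
    group
  obtain ⟨w, hw1, hw2⟩ := infConj_family x H I hI (LocalLift.hasAffineUnitNhd_of_isLocalRing _) a b ha hb (by
    rw [← cancel_mono i, Category.assoc, ← ha0]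
    simp only [MonObj.comp_mul, GrpObj.comp_inv, whiskerLeft_snd_assoc, h₁, MonObj.comp_one, Category.assoc, b]
    rw [inv_one, _root_.one_mul, _root_.mul_one])
  refine ⟨w, hw1, ?_⟩
  rw [mem_centPts]
  intro T t h
  have h4 : (lift (lift h t ≫ ψ) t ≫ a) ≫ i = ((t ≫ w) * (lift (lift h t ≫ ψ) t ≫ b) * (t ≫ w)⁻¹) ≫ i :=
    congrArg (· ≫ i) (hw2 T (lift h t ≫ ψ) t)
  rw [ha', ← Category.assoc (lift (lift h t ≫ ψ) t) e q, hψ2, MonObj.mul_comp, MonObj.mul_comp] at h4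
  rw [show ((t ≫ w)⁻¹ : T ⟶ H) ≫ i = (t ≫ w ≫ i)⁻¹ by rw [GrpObj.inv_comp, Category.assoc]] at h4
  rw [MonObj.comp_mul, GrpObj.comp_inv]
  simp only [Category.assoc] at h4 ⊢
  rw [mul_inv_eq_iff_eq_mul] at h4
  rw [_root_.mul_assoc, h4]
  group

end conj

/-- If a smooth subgroup `H → G` contains the centralizer of a split torus `Q` of `H`, then `H → N` is smooth for
every subgroup `N` of `G` containing `H` and normalizing `H`. -/
theorem smooth_toNormalizer {G H Q C N : Over S} [GrpObj G] [GrpObj H] [GrpObj Q] (i : H ⟶ G) [IsMonHom i] [Mono i]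
    [Smooth H.hom] [IsSeparated H.hom] (q : Q ⟶ H) [IsMonHom q] {M : Type} [AddCommGroup M]
    (hQ : ∀ {S' : Scheme.{u}} (x : S' ⟶ S), Red.IsSplitTorusWith M (Red.bc x Q))
    (c : C ⟶ H) (hC : ∀ (T : Over S) (g : T ⟶ G), g ∈ centPts (q ≫ i) T → ∃ a : T ⟶ C, a ≫ c ≫ i = g)
    [LocallyOfFiniteType N.hom] (n : N ⟶ G) [Mono n] (f : H ⟶ N) (hf : f ≫ n = i)
    (hN : ∀ (T : Over S) (a : T ⟶ N), a ≫ n ∈ normPts i T) : Smooth f.left := by
  have hlfp : LocallyOfFinitePresentation f.left := Sga3.H799.FibCrit.lfp_left f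
  refine LocalLift.smooth_of_local_lift f.left fun B _ _ I hI α β hβ => ?_
  obtain ⟨x, hx⟩ : ∃ x : Spec (CommRingCat.of B) ⟶ S, x = β ≫ N.hom := ⟨_, rfl⟩
  let b : Over.mk x ⟶ N := Over.homMk β hx.symm
  let α₀ : Over.mk (Spec.map (CommRingCat.ofHom (Ideal.Quotient.mk I)) ≫ x) ⟶ H :=
    Over.homMk α (by
      change α ≫ H.hom = _ ≫ x
      rw [hx, ← Category.assoc, hβ, Category.assoc, Over.w])
  have hα : α₀ ≫ f = redMap x I ≫ b := by
    apply Over.OverMorphism.ext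
    exact hβ.symm
  obtain ⟨l, hl1, hl2⟩ := Flat2H.FSSmoothHom.isFormallySmoothHom_of_smooth H.hom B I (by rw [pow_two, hI])
    α₀.left x (by rw [Over.w]; rfl)
  let h : Over.mk x ⟶ H := Over.homMk l hl2
  have hh : redMap x I ≫ h = α₀ := by
    apply Over.OverMorphism.ext
    exact hl1
  let g : Over.mk x ⟶ G := (b ≫ n) * (h ≫ i)⁻¹
  have hg1 : redMap x I ≫ g = 1 := by
    change redMap x I ≫ ((b ≫ n) * (h ≫ i)⁻¹) = 1
    rw [MonObj.comp_mul, GrpObj.comp_inv, ← Category.assoc, ← hα, ← Category.assoc (redMap x I) h i, hh,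
      Category.assoc, hf, mul_inv_cancel]
  have hg2 : g ∈ normPts i _ := by
    refine mul_mem (hN _ b) (inv_mem ?_)
    rw [← hf, ← Category.assoc]
    exact hf ▸ hN _ (h ≫ f)
  obtain ⟨w, hw1, hw2⟩ := exists_conj i q I hI x (hQ x) g (fun T t k => by
    obtain ⟨⟨h', hh'⟩, -⟩ := (mem_normPts i).1 hg2 T t (k ≫ q)
    exact ⟨h', by rw [← hh', Category.assoc]⟩) hg1
  obtain ⟨a, ha⟩ := hC _ _ hw2
  let γ : Over.mk x ⟶ H := w * (a ≫ c) * h
  have hγi : γ ≫ i = b ≫ n := by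
    change (w * (a ≫ c) * h) ≫ i = _
    rw [MonObj.mul_comp, MonObj.mul_comp, Category.assoc, ha]
    change (w ≫ i) * ((w ≫ i)⁻¹ * ((b ≫ n) * (h ≫ i)⁻¹)) * (h ≫ i) = _
    group
  refine ⟨γ.left, ?_, ?_⟩
  · have h5 : redMap x I ≫ γ = α₀ := by
      rw [← cancel_mono i, Category.assoc, hγi, ← Category.assoc, ← hα, Category.assoc, hf]
    exact congrArg CommaMorphism.left h5
  · have h6 : γ ≫ f = b := by
      rw [← cancel_mono n, Category.assoc, hf, hγi]
    exact congrArg CommaMorphism.left h6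

end K16.NormOpen
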