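import Groth.Agent.SGA3x.K16.OrbHom
import Groth.Agent.RedSub.K197.QuotPts
import Groth.Agent.RedSub.H650.QuotPts
import Groth.Agent.Books.AlgPts

/-!
# Orbits in schemes of homomorphisms from groups of multiplicative type are open and closed

and the quotient of `G` by the centralizer of a homomorphism from a finite group of multiplicative type is affine
(over an algebraically closed field, `G` smooth affine).
-/

set_option autoImplicit false
set_option linter.unusedSectionVars false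
universe u
open CategoryTheory MonoidalCategory CartesianMonoidalCategory MonObj GrpObj AlgebraicGeometry Limits

namespace K16.OrbClosed

open Groth.Agent Groth.Agent.Sga3B Groth.Agent.Books.AlgPts OrbHom

section quot

variable {S : Scheme.{u}} {Q G X C : Over S} [GrpObj Q] [GrpObj G] [GrpObj C]
  {υ : Q ⊗ X ⟶ G} (hυ : AutFam.RepresentsHom Q G X υ) {u : Q ⟶ G} {o : G ⟶ X} (h : IsOrb υ u o)
  {c : C ⟶ G} (hc : Red.IsCentralizerOf u c)

include hυ h hc in
theorem mul_comp {T : Over S} (g : T ⟶ G) (y : T ⟶ C) : (g * (y ≫ c)) ≫ o = g ≫ o := by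
  have hc1 := hc.1
  refine pt_ext hυ fun T' t q => ?_
  rw [← Category.assoc t, h.lift, ← Category.assoc t, h.lift, MonObj.comp_mul]
  have h1 := (hc.2.2 T' (t ≫ y ≫ c)).1 ⟨t ≫ y, Category.assoc _ _ _⟩ T' (𝟙 _) q
  rw [Category.id_comp] at h1
  have h2 : (t ≫ g) * (t ≫ y ≫ c) * (q ≫ u) * ((t ≫ g) * (t ≫ y ≫ c))⁻¹ =
      (t ≫ g) * ((t ≫ y ≫ c) * (q ≫ u)) * (t ≫ y ≫ c)⁻¹ * (t ≫ g)⁻¹ := by group
  rw [h2, h1]
  group

include h hc in
theorem exists_of_eq {T : Over S} (g g' : T ⟶ G) (hg : g ≫ o = g' ≫ o) : ∃ y : T ⟶ C, g' = g * (y ≫ c) := by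
  have h1 : ∀ (T' : Over S) (t : T' ⟶ T) (q : T' ⟶ Q),
      (t ≫ g) * (q ≫ u) * (t ≫ g)⁻¹ = (t ≫ g') * (q ≫ u) * (t ≫ g')⁻¹ := by
    intro T' t q
    rw [← h.lift, ← h.lift, Category.assoc, Category.assoc, hg]
  obtain ⟨y, hy⟩ := (hc.2.2 T (g⁻¹ * g')).2 (fun T' t q => by
    have h2 := h1 T' t q
    rw [MonObj.comp_mul, GrpObj.comp_inv]
    have h3 : (q ≫ u) = (t ≫ g)⁻¹ * ((t ≫ g) * (q ≫ u) * (t ≫ g)⁻¹) * (t ≫ g) := by group
    conv_rhs => rw [h3, h2]
    group)
  exact ⟨y, by rw [hy]; group⟩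

include hυ h hc in
theorem isQuotient {W : Over S} (w : W ⟶ X) [Mono w] (q₁ : G ⟶ W) (hq : q₁ ≫ w = o) (hcov : K197.Fppf.IsCov q₁) :
    RedSub.IsQuotient c q₁ := by
  have hc2 := hc.2.1
  refine K197.QuotPts.isQuotient_of_pts hcov (fun T g y => ?_) fun T g g' hg => ?_
  · rw [← cancel_mono w, Category.assoc, Category.assoc, hq]
    exact mul_comp hυ h hc g y
  · refine exists_of_eq h hc g g' ?_
    rw [← hq, ← Category.assoc, ← Category.assoc, hg]

end quot

theorem smooth_of_comp_mono {A B C : Scheme.{u}} (l : A ⟶ B) (i : B ⟶ C) [Mono i] (h : Smooth (l ≫ i)) :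
    Smooth l := by
  have sq : IsPullback (𝟙 A) l (l ≫ i) i :=
    K197.QuotPts.isPullback_of_pts (by rw [Category.id_comp]) (fun T x y hxy => ⟨x, Category.comp_id _, by
      rw [← cancel_mono i, Category.assoc, hxy]⟩) fun T a a' h1 _ => by
      simpa using h1
  exact MorphismProperty.of_isPullback sq h

section field

variable {K : Type u} [Field K] [IsAlgClosed K] {Q G X : Over (Spec (CommRingCat.of K))} [GrpObj Q] [GrpObj G]
  {υ : Q ⊗ X ⟶ G} (hυ : AutFam.RepresentsHom Q G X υ)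

include hυ in
/-- **Orbits are open and closed.** -/
theorem isClosed_range (hQ : SGA3x.IsMultTypeFT Q) [Smooth G.hom] [IsSeparated G.hom] [LocallyOfFiniteType X.hom]
    {u : Q ⟶ G} [IsMonHom u] {o : G ⟶ X} (h : IsOrb υ u o) :
    IsOpen (Set.range o.left) ∧ IsClosed (Set.range o.left) := by
  have hopen : ∀ {v : Q ⟶ G} [IsMonHom v] {p : G ⟶ X}, IsOrb υ v p → IsOpen (Set.range p.left) := by
    intro v _ p hp
    have := smooth_orb hυ hQ hp
    exact p.left.isOpenMap.isOpen_range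
  refine ⟨hopen h, ?_⟩
  have key : ∀ x : 𝟙_ (Over (Spec (CommRingCat.of K))) ⟶ X, pt x ∉ Set.range o.left →
      ∃ V : Set X.left, IsOpen V ∧ pt x ∈ V ∧ V ∩ Set.range o.left = ∅ := by
    intro x hx
    let v : Q ⟶ G := lift (𝟙 Q) (toUnit Q ≫ x) ≫ υ
    have hv0 : ∀ {T : Over (Spec (CommRingCat.of K))} (q : T ⟶ Q) (t : T ⟶ 𝟙_ _), q ≫ v = lift q (t ≫ x) ≫ υ := by
      intro T q t
      change q ≫ lift (𝟙 Q) (toUnit Q ≫ x) ≫ υ = _
      rw [← Category.assoc, comp_lift, Category.comp_id]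
      congr 2
      rw [← Category.assoc]
      congr 1
      exact toUnit_unique _ _
    have hv : IsMonHom v := InfConjFam.isMonHom_of_mul _ fun T a b => by
      rw [hv0 _ (toUnit T), hv0 _ (toUnit T), hv0 _ (toUnit T)]
      exact hυ.1 T a b _
    obtain ⟨p, hp⟩ := exists_orb hυ v
    refine ⟨Set.range p.left, hopen hp, ?_, ?_⟩
    · have h1 : (1 : 𝟙_ (Over (Spec (CommRingCat.of K))) ⟶ G) ≫ p = x := by
        refine pt_ext hυ fun T t q => ?_
        rw [← Category.assoc t, hp.lift, MonObj.comp_one, hv0 q t]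
        group
      rw [← h1, pt_comp]
      exact ⟨_, rfl⟩
    · by_contra hne
      rw [← ne_eq, ← Set.nonempty_iff_ne_empty] at hne
      obtain ⟨y, hy1, hy2⟩ := exists_pt_mem hne ((hopen hp).inter (hopen h)).isLocallyClosed
      obtain ⟨g', hg'⟩ := exists_comp_eq_of_pt_mem_range p y hy1
      obtain ⟨g, hg⟩ := exists_comp_eq_of_pt_mem_range o y hy2
      apply hx
      have h1 : (g'⁻¹ * g) ≫ o = x := by
        refine pt_ext hυ fun T t q => ?_
        rw [← Category.assoc t, h.lift, ← hv0 q t]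
        have h2 : (t ≫ g) * (q ≫ u) * (t ≫ g)⁻¹ = (t ≫ g') * (q ≫ v) * (t ≫ g')⁻¹ := by
          rw [← h.lift, ← hp.lift, Category.assoc, Category.assoc, hg, hg']
        rw [MonObj.comp_mul, GrpObj.comp_inv]
        have h3 : (t ≫ g')⁻¹ * (t ≫ g) * (q ≫ u) * ((t ≫ g')⁻¹ * (t ≫ g))⁻¹ =
            (t ≫ g')⁻¹ * ((t ≫ g) * (q ≫ u) * (t ≫ g)⁻¹) * (t ≫ g') := by group
        rw [h3, h2]
        group
      rw [← h1, pt_comp]
      exact ⟨_, rfl⟩
  choose! V hV1 hV2 hV3 using key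
  let W : Set X.left := ⋃ x ∈ {x : 𝟙_ (Over (Spec (CommRingCat.of K))) ⟶ X | pt x ∉ Set.range o.left}, V x
  have hW : IsOpen W := isOpen_biUnion fun x hx => hV1 x hx
  have hWU : (Set.range o.left)ᶜ = W := by
    apply Set.Subset.antisymm
    · by_contra hcon
      rw [Set.not_subset] at hcon
      obtain ⟨z, hz1, hz2⟩ := hcon
      obtain ⟨x, hx1, hx2⟩ := exists_pt_mem (X := X) (U := (Set.range o.left)ᶜ ∩ Wᶜ) ⟨z, hz1, hz2⟩
        ((hopen h).isClosed_compl.inter hW.isClosed_compl).isLocallyClosed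
      exact hx2 (Set.mem_biUnion (show x ∈ {x | pt x ∉ Set.range o.left} from hx1) (hV2 x hx1))
    · intro z hz hz'
      obtain ⟨x, hx, hzx⟩ := Set.mem_iUnion₂.1 hz
      have : z ∈ V x ∩ Set.range o.left := ⟨hzx, hz'⟩
      rw [hV3 x hx] at this
      exact this
  rw [← isOpen_compl_iff, hWU]
  exact hW

include hυ in
/-- The quotient of `G` by the centralizer of a homomorphism from a group of multiplicative type `Q` exists and is
affine, if `Hom(Q, G)` is affine. -/
theorem exists_quotient [IsAffine X.left] (hQ : SGA3x.IsMultTypeFT Q) [Smooth G.hom] [IsSeparated G.hom]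
    [LocallyOfFiniteType X.hom] {u : Q ⟶ G} [IsMonHom u] {C : Over (Spec (CommRingCat.of K))} [GrpObj C] {c : C ⟶ G}
    (hc : Red.IsCentralizerOf u c) : ∃ (W : Over (Spec (CommRingCat.of K))) (q : G ⟶ W), RedSub.IsQuotient c q ∧
      IsAffine W.left ∧ LocallyOfFiniteType W.hom := by
  obtain ⟨o, ho⟩ := exists_orb hυ u
  obtain ⟨h1, h2⟩ := isClosed_range hυ hQ ho
  have hos := smooth_orb hυ hQ ho
  let U : X.left.Opens := ⟨Set.range o.left, h1⟩
  have hr : Set.range o.left ⊆ Set.range U.ι := by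
    rw [Scheme.Opens.range_ι]
    exact subset_rfl
  let W : Over (Spec (CommRingCat.of K)) := Over.mk (U.ι ≫ X.hom)
  let w : W ⟶ X := Over.homMk U.ι
  let l : G.left ⟶ U := IsOpenImmersion.lift U.ι o.left hr
  have hl : l ≫ U.ι = o.left := IsOpenImmersion.lift_fac _ _ _
  let q₁ : G ⟶ W := Over.homMk l (by
    change l ≫ U.ι ≫ X.hom = G.hom
    rw [← Category.assoc, hl, Over.w])
  have hqw : q₁ ≫ w = o := by
    ext1
    exact hl
  have hw : Mono w := by
    have : Mono w.left := inferInstanceAs (Mono U.ι)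
    exact Over.mono_of_mono_left w
  have hls : Smooth l := smooth_of_comp_mono l U.ι (by rw [hl]; exact hos)
  have hcov : K197.Fppf.IsCov q₁ := by
    refine ⟨⟨fun y => ?_⟩, inferInstanceAs (Flat l), inferInstanceAs (LocallyOfFinitePresentation l)⟩
    obtain ⟨g, hg⟩ := y.2
    refine ⟨g, ?_⟩
    apply U.ι.isOpenEmbedding.injective
    change U.ι (l g) = _
    rw [← Scheme.Hom.comp_apply, hl, hg]
    rfl
  refine ⟨W, q₁, isQuotient hυ ho hc w q₁ hqw hcov, ?_, inferInstanceAs (LocallyOfFiniteType (U.ι ≫ X.hom))⟩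
  have h3 : IsClosedImmersion U.ι := IsClosedImmersion.of_isPreimmersion _ (by
    rw [Scheme.Opens.range_ι]
    exact h2)
  exact isAffine_of_isAffineHom U.ι

end field

end K16.OrbClosed
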