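import Groth.Agent.SGA3x.K5.MTTransp
import Groth.Agent.SGA3x.K5.Clopen
import Groth.Agent.SGA3x.K20.HomGrp

/-!
# Orbit maps in schemes of homomorphisms are smooth

`Q` of multiplicative type, `G` smooth and separated, `(X, υ)` representing `Hom_{S-gr}(Q, G)`, `u : Q ⟶ G` a
homomorphism.  The orbit map `G ⟶ X`, `g ↦ g u g⁻¹` is smooth.
-/

set_option autoImplicit false
set_option linter.unusedSectionVars false
universe u
open CategoryTheory MonoidalCategory CartesianMonoidalCategory MonObj GrpObj AlgebraicGeometry Limits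

namespace K16.OrbHom

open Groth.Agent Groth.Agent.Sga3B BcPts Groth.Agent.SGA3x.K5.Clopen
open Groth.Agent.Sga3B.TorTransp (Transp)

variable {S : Scheme.{u}} {Q G X : Over S} [GrpObj Q] [GrpObj G]

/-- the family of conjugates of `u` -/
noncomputable def conjFam (u : Q ⟶ G) : Q ⊗ G ⟶ G := snd Q G * (fst Q G ≫ u) * (snd Q G)⁻¹

lemma lift_conjFam (u : Q ⟶ G) {T : Over S} (q : T ⟶ Q) (g : T ⟶ G) :
    lift q g ≫ conjFam u = g * (q ≫ u) * g⁻¹ := by
  simp only [conjFam, MonObj.comp_mul, GrpObj.comp_inv, lift_snd, lift_fst_assoc]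

lemma isHomFamily_conjFam (u : Q ⟶ G) [IsMonHom u] : AutFam.IsHomFamily Q G (conjFam u) := by
  intro T g₁ g₂ t
  rw [lift_conjFam, lift_conjFam, lift_conjFam, MonObj.mul_comp]
  group

/-- `o` is the orbit map of `u` -/
def IsOrb (υ : Q ⊗ X ⟶ G) (u : Q ⟶ G) (o : G ⟶ X) : Prop := (Q ◁ o) ≫ υ = conjFam u

variable {υ : Q ⊗ X ⟶ G} (hυ : AutFam.RepresentsHom Q G X υ) {u : Q ⟶ G} {o : G ⟶ X}

include hυ in
theorem exists_orb (u : Q ⟶ G) [IsMonHom u] : ∃ o : G ⟶ X, IsOrb υ u o :=
  (hυ.2 G _ (isHomFamily_conjFam u)).exists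

lemma IsOrb.lift (h : IsOrb υ u o) {T : Over S} (q : T ⟶ Q) (g : T ⟶ G) :
    lift q (g ≫ o) ≫ υ = g * (q ≫ u) * g⁻¹ := by
  rw [← lift_conjFam, ← h, ← Category.assoc, lift_whiskerLeft]

include hυ in
/-- Points of `X` are determined by the homomorphisms. -/
theorem pt_ext {T : Over S} {x y : T ⟶ X}
    (h : ∀ (T' : Over S) (t : T' ⟶ T) (q : T' ⟶ Q), CartesianMonoidalCategory.lift q (t ≫ x) ≫ υ =
      CartesianMonoidalCategory.lift q (t ≫ y) ≫ υ) : x = y := by
  have h1 : AutFam.IsHomFamily Q G ((Q ◁ x) ≫ υ) := by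
    intro T' g₁ g₂ t
    simp only [← Category.assoc, lift_whiskerLeft]
    exact hυ.1 T' g₁ g₂ (t ≫ x)
  refine (hυ.2 T _ h1).unique rfl ?_
  have h2 := h _ (snd Q T) (fst Q T)
  have e : ∀ z : T ⟶ X, CartesianMonoidalCategory.lift (fst Q T) (snd Q T ≫ z) = Q ◁ z := by
    intro z
    apply CartesianMonoidalCategory.hom_ext <;> simp
  rw [e, e] at h2
  exact h2.symm

include hυ in
/-- **Orbit maps are smooth.** -/
theorem smooth_orb [IsMonHom u] (hQ : SGA3x.IsMultTypeFT Q) [Smooth G.hom] [IsSeparated G.hom] (h : IsOrb υ u o) :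
    Smooth o.left := by
  let p := X.hom
  let u₁ : Red.bc p Q ⟶ Red.bc p G := (Over.pullback p).map u
  let u₂ : Red.bc p Q ⟶ Red.bc p G := famMap υ
  have hu₂ : IsMonHom u₂ := isMonHom_famMap hυ.1
  have h1 : Smooth (Red.bc p G).hom := inferInstanceAs (Smooth (pullback.snd _ _))
  have h2 : IsSeparated (Red.bc p G).hom := inferInstanceAs (IsSeparated (pullback.snd _ _))
  have hQp : SGA3x.IsMultTypeFT (Red.bc p Q) := K10.MTLoc.bc p hQ
  obtain ⟨Z, z, hz, hZs, -, huniv⟩ := SGA3x.K5.MTTransp.exists_transporter u₁ u₂ hQp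
  have hmono : Mono z := Over.mono_of_mono_left z
  let e : (Over.map p).obj (Over.mk o.left) ⟶ G := Over.homMk (𝟙 G.left)
    ((Category.id_comp _).trans (Over.w o).symm)
  have he : e ≫ o = st (Over.mk o.left) := by
    ext1
    exact Category.id_comp _
  -- the transporter in terms of points over `S`
  have key : ∀ {T : Over X.left} (g : (Over.map p).obj T ⟶ G), Transp u₁ u₂ (bcEquiv p T G g) ↔ g ≫ o = st T := by
    intro T g
    constructor
    · intro hg
      refine pt_ext hυ fun T' t q => ?_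
      rw [← Category.assoc, h.lift]
      -- `T'` as an `X`-scheme
      obtain ⟨W, w, i, hi⟩ : ∃ (W : Over X.left) (w : W ⟶ T) (i : T' ≅ (Over.map p).obj W),
          i.hom ≫ (Over.map p).map w = t :=
        ⟨Over.mk (t.left ≫ T.hom), Over.homMk t.left rfl, Over.isoMk (Iso.refl _) (by
          have := Over.w t
          simpa using this), by ext1; simp⟩
      have h3 := hg W w (bcEquiv p W Q (i.inv ≫ q))
      have h4 := congrArg (bcMulEquiv p W G).symm h3
      rw [map_mul, map_mul, map_inv] at h4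
      have e1 : (bcMulEquiv p W G).symm (w ≫ bcEquiv p T G g) = (Over.map p).map w ≫ g := by
        change (bcEquiv p W G).symm _ = _
        rw [comp_bcEquiv_symm, Equiv.symm_apply_apply]
      have e2 : (bcMulEquiv p W G).symm (bcEquiv p W Q (i.inv ≫ q) ≫ u₁) = (i.inv ≫ q) ≫ u := by
        change (bcEquiv p W G).symm _ = _
        rw [bcEquiv_symm_comp, Equiv.symm_apply_apply]
      have e3 : (bcMulEquiv p W G).symm (bcEquiv p W Q (i.inv ≫ q) ≫ u₂) =
          CartesianMonoidalCategory.lift (i.inv ≫ q) (st W) ≫ υ := by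
        change (bcEquiv p W G).symm _ = _
        rw [comp_famMap, Equiv.symm_apply_apply, Equiv.symm_apply_apply]
      rw [e1, e2, e3] at h4
      have h5 := congrArg (fun f => i.hom ≫ f) h4
      simp only [MonObj.comp_mul, GrpObj.comp_inv, ← Category.assoc, hi, comp_lift] at h5
      have h6 : i.hom ≫ st W = t ≫ st T := by
        rw [← map_st w, ← Category.assoc, hi]
      rw [h6] at h5
      simpa using h5
    · intro hg W w q
      apply (bcMulEquiv p W G).symm.injective
      rw [map_mul, map_mul, map_inv]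
      have e1 : (bcMulEquiv p W G).symm (w ≫ bcEquiv p T G g) = (Over.map p).map w ≫ g := by
        change (bcEquiv p W G).symm _ = _
        rw [comp_bcEquiv_symm, Equiv.symm_apply_apply]
      have e2 : (bcMulEquiv p W G).symm (q ≫ u₁) = (bcEquiv p W Q).symm q ≫ u := by
        change (bcEquiv p W G).symm _ = _
        rw [bcEquiv_symm_comp]
      have e3 : (bcMulEquiv p W G).symm (q ≫ u₂) =
          CartesianMonoidalCategory.lift ((bcEquiv p W Q).symm q) (st W) ≫ υ := by
        change (bcEquiv p W G).symm _ = _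
        rw [comp_famMap, Equiv.symm_apply_apply]
      rw [e1, e2, e3, ← h.lift, Category.assoc, hg, map_st]
  obtain ⟨a, ha⟩ := (huniv _ (bcEquiv p (Over.mk o.left) G e)).2 ((key e).2 he)
  let w : (Over.map p).obj Z ⟶ G := (bcEquiv p Z G).symm z
  have hw : w ≫ o = st Z := (key w).1 (by
    rw [Equiv.apply_symm_apply]
    exact (huniv _ z).1 ⟨𝟙 _, Category.id_comp _⟩)
  let w' : Z ⟶ Over.mk o.left := Over.homMk w.left (congrArg CommaMorphism.left hw)
  have haw : a ≫ w' = 𝟙 _ := by
    have h3 : (Over.map p).map a ≫ w = e := by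
      apply (bcEquiv p _ G).injective
      rw [comp_bcEquiv, Equiv.apply_symm_apply, ha]
    have h4 : a.left ≫ w.left = 𝟙 _ := congrArg CommaMorphism.left h3
    ext1
    exact h4
  have hwa : w' ≫ a = 𝟙 _ := by
    rw [← cancel_mono z, Category.assoc, ha, Category.id_comp]
    apply (bcEquiv p _ G).symm.injective
    rw [← comp_bcEquiv, Equiv.symm_apply_apply]
    ext1
    exact Category.comp_id _
  have h5 : IsIso a := ⟨w', haw, hwa⟩
  have h6 : IsIso a.left := inferInstanceAs (IsIso ((Over.forget _).map a))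
  have h7 : a.left ≫ Z.hom = o.left := Over.w a
  rw [← h7]
  infer_instance

end K16.OrbHom
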