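import Groth.Agent.Sga3C.FlatImage
import Groth.Agent.Sga3B.RedIdComp
import Groth.Agent.Books.AlgPtsSmooth
import Groth.Agent.Books.AlgPts

/-!
# Extensions over an algebraically closed field: reducedness and connectedness

`q : P ⟶ Q` is a faithfully flat homomorphism whose kernel is contained in (the image of) a scheme `D`.
If `D` and `Q` are reduced (resp. connected) then so is `P`.
-/

set_option autoImplicit false
universe u
open CategoryTheory MonoidalCategory CartesianMonoidalCategory MonObj GrpObj AlgebraicGeometry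

namespace K16.PreimKer

open Groth.Agent Groth.Agent.Books.AlgPts

theorem flat_of_surjective (K : Type u) [Field K] {G H : Over (Spec (CommRingCat.of K))}
    [GrpObj G] [GrpObj H] (f : G ⟶ H) [IsMonHom f] [QuasiCompact f.left] [Surjective f.left]
    [IsReduced H.left] [IsLocallyNoetherian H.left] : Flat f.left := by
  have h1 : Subsingleton ↥(Spec (CommRingCat.of K)) := inferInstanceAs (Subsingleton (PrimeSpectrum K))
  have h2 : ∀ X : Scheme.{u}, ∀ g : X ⟶ Spec (CommRingCat.of K), Flat g := fun X g => by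
    infer_instance
  have h3 : Flat G.hom := h2 _ _
  have h4 : IsSchemeTheoreticallyDominant f.left := .of_isDominant _
  exact Sga3C.FlatImage.flat_of_flat_ker f (h2 _ _) f (𝟙 H) (Category.comp_id f)

variable {K : Type u} [Field K] [IsAlgClosed K]

omit [IsAlgClosed K] in
/-- A morphism from a reduced scheme factors through every surjective closed immersion. -/
theorem exists_lift_of_isReduced {R D P : Over (Spec (CommRingCat.of K))} (r : R ⟶ P) [IsClosedImmersion r.left]
    [Surjective r.left] [IsReduced D.left] (d : D ⟶ P) : ∃ δ : D ⟶ R, δ ≫ r = d := by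
  have h1 : IsIso (Limits.pullback.snd r.left d.left) :=
    isIso_of_isClosedImmersion_of_surjective _
  refine ⟨Over.homMk (inv (Limits.pullback.snd r.left d.left) ≫ Limits.pullback.fst r.left d.left) ?_, ?_⟩
  · rw [← Over.w r, Category.assoc, Limits.pullback.condition_assoc, IsIso.inv_hom_id_assoc, Over.w]
  · apply Over.OverMorphism.ext
    change (inv (Limits.pullback.snd r.left d.left) ≫ Limits.pullback.fst r.left d.left) ≫ r.left = d.left
    rw [Category.assoc, Limits.pullback.condition, IsIso.inv_hom_id_assoc]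

/-- A closed immersion through which a faithfully flat quasi-compact morphism factors is an isomorphism. -/
theorem isIso_of_factor {R P W : Scheme.{u}} (r : R ⟶ P) [Mono r] (w : W ⟶ P) [Flat w] [Surjective w] [QuasiCompact w]
    (v : W ⟶ R) (hv : v ≫ r = w) : IsIso r := by
  have h1 : IsIso (Limits.pullback.snd r w) := by
    have h2 : IsSplitEpi (Limits.pullback.snd r w) :=
      ⟨⟨Limits.pullback.lift v (𝟙 W) (by rw [hv, Category.id_comp]), Limits.pullback.lift_snd _ _ _⟩⟩
    exact isIso_of_mono_of_isSplitEpi _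
  exact MorphismProperty.of_isPullback_of_descendsAlong (P := MorphismProperty.isomorphisms Scheme.{u})
    (Q := @Surjective ⊓ @Flat ⊓ @QuasiCompact) (IsPullback.of_hasPullback r w).flip ⟨⟨inferInstance, inferInstance⟩, inferInstance⟩ h1

theorem smooth_of_ker {P Q D : Over (Spec (CommRingCat.of K))} [GrpObj P] [GrpObj Q] [LocallyOfFiniteType P.hom]
    [LocallyOfFiniteType Q.hom] (q : P ⟶ Q) [IsMonHom q] [Flat q.left] [Surjective q.left] [QuasiCompact q.left]
    [IsReduced Q.left] [IsReduced D.left] (d : D ⟶ P)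
    (hd : ∀ (T : Over (Spec (CommRingCat.of K))) (p : T ⟶ P), p ≫ q = 1 → ∃ a : T ⟶ D, a ≫ d = p) :
    Smooth P.hom := by
  obtain ⟨R, _, r, hr1, hr2, hr3, hr4⟩ := Sga3B.RedIdComp.exists_reduced P
  obtain ⟨δ, hδ⟩ := exists_lift_of_isReduced r d
  have hQn : IsLocallyNoetherian Q.left := LocallyOfFiniteType.isLocallyNoetherian Q.hom
  have hrq : Flat (r ≫ q).left := by
    have : QuasiCompact (r ≫ q).left := by rw [Over.comp_left]; infer_instance
    have : Surjective (r ≫ q).left := by rw [Over.comp_left]; infer_instance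
    exact flat_of_surjective K (r ≫ q)
  let W : Over (Spec (CommRingCat.of K)) := Over.mk (Limits.pullback.fst (r ≫ q).left q.left ≫ R.hom)
  let a : W ⟶ R := Over.homMk (Limits.pullback.fst (r ≫ q).left q.left) rfl
  let b : W ⟶ P := Over.homMk (Limits.pullback.snd (r ≫ q).left q.left) (by
    change _ ≫ P.hom = _ ≫ R.hom
    rw [← Over.w q, ← Limits.pullback.condition_assoc, Over.w])
  have hab : a ≫ r ≫ q = b ≫ q := by
    apply Over.OverMorphism.ext
    exact Limits.pullback.condition
  obtain ⟨k, hk⟩ := hd W ((a ≫ r)⁻¹ * b) (by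
    rw [MonObj.mul_comp, GrpObj.inv_comp, Category.assoc, hab, inv_mul_cancel])
  have hb : (a * (k ≫ δ)) ≫ r = b := by
    rw [MonObj.mul_comp, Category.assoc, hδ, hk, mul_inv_cancel_left]
  have h1 : Flat b.left := inferInstanceAs (Flat (Limits.pullback.snd (r ≫ q).left q.left))
  have h2 : Surjective b.left := by
    have : Surjective (r ≫ q).left := by rw [Over.comp_left]; infer_instance
    exact inferInstanceAs (Surjective (Limits.pullback.snd (r ≫ q).left q.left))
  have h3 : QuasiCompact b.left := by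
    have : QuasiCompact (r ≫ q).left := by rw [Over.comp_left]; infer_instance
    exact inferInstanceAs (QuasiCompact (Limits.pullback.snd (r ≫ q).left q.left))
  have h4 : IsIso r.left := isIso_of_factor r.left b.left (a * (k ≫ δ)).left (by rw [← Over.comp_left, hb])
  have h5 : IsReduced P.left := isReduced_of_isOpenImmersion (inv r.left)
  exact Books.AlgPtsSmooth.smooth_of_isReduced P

theorem connectedSpace_of_ker {P Q D : Over (Spec (CommRingCat.of K))} [GrpObj P] [GrpObj Q]
    [LocallyOfFiniteType P.hom] [LocallyOfFiniteType Q.hom] (q : P ⟶ Q) [IsMonHom q] (hq : IsOpenMap q.left)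
    [Surjective q.left] [ConnectedSpace Q.left] [PreconnectedSpace D.left] (d : D ⟶ P)
    (hd : ∀ (T : Over (Spec (CommRingCat.of K))) (p : T ⟶ P), p ≫ q = 1 → ∃ a : T ⟶ D, a ≫ d = p) :
    ConnectedSpace P.left := by
  have hne : Nonempty P.left := ⟨pt η[P]⟩
  have : PreconnectedSpace P.left := by
    rw [preconnectedSpace_iff_clopen]
    intro A hA
    by_contra hcon
    rw [not_or, ← ne_eq, ← ne_eq, ← Set.nonempty_iff_ne_empty, Set.ne_univ_iff_exists_notMem] at hcon
    obtain ⟨hA1, b₀, hb₀⟩ := hcon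
    have h1 : (q.left '' A ∩ q.left '' Aᶜ).Nonempty := by
      have hB1 : (Aᶜ : Set P.left).Nonempty := ⟨b₀, hb₀⟩
      refine nonempty_inter (hq _ hA.isOpen) (hq _ hA.compl.isOpen) ?_ (hA1.image _) (hB1.image _)
      rw [← Set.image_union, Set.union_compl_self, Set.image_univ, q.left.surjective.range_eq]
    obtain ⟨y, hy⟩ := exists_pt_mem (X := Q) h1 ((hq _ hA.isOpen).inter (hq _ hA.compl.isOpen)).isLocallyClosed
    have h2 : ∀ B : Set P.left, IsOpen B → pt y ∈ q.left '' B → ∃ b : 𝟙_ (Over (Spec (CommRingCat.of K))) ⟶ P, pt b ∈ B ∧ b ≫ q = y := by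
      intro B hB hyB
      obtain ⟨z, hz, hz'⟩ := hyB
      obtain ⟨b, hb⟩ := exists_pt_mem (X := P) (U := B ∩ q.left ⁻¹' {pt y}) ⟨z, hz, hz'⟩
        (hB.isLocallyClosed.inter ((isClosed_pt y).preimage q.left.continuous).isLocallyClosed)
      refine ⟨b, hb.1, pt_injective ?_⟩
      rw [pt_comp]
      exact hb.2
    obtain ⟨a, ha, haq⟩ := h2 A hA.isOpen hy.1
    obtain ⟨b, hb, hbq⟩ := h2 Aᶜ hA.compl.isOpen hy.2
    obtain ⟨t, ht⟩ := hd _ (a⁻¹ * b) (by rw [MonObj.mul_comp, GrpObj.inv_comp, haq, hbq, inv_mul_cancel])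
    obtain ⟨t₁, ht₁⟩ := hd (𝟙_ _) 1 (by rw [MonObj.one_comp])
    let m : D ⟶ P := (toUnit D ≫ a) * d
    have hm : ∀ x : 𝟙_ (Over (Spec (CommRingCat.of K))) ⟶ D, x ≫ m = a * (x ≫ d) := by
      intro x
      rw [MonObj.comp_mul, ← Category.assoc, toUnit_unique (x ≫ toUnit D) (𝟙 _), Category.id_comp]
    have h3 : IsClopen (m.left ⁻¹' A) := hA.preimage m.left.continuous
    have h4 : m.left ⁻¹' A = Set.univ := (isClopen_iff.1 h3).resolve_left (Set.Nonempty.ne_empty ⟨pt t₁, by
      rw [Set.mem_preimage, ← pt_comp, hm, ht₁, _root_.mul_one]; exact ha⟩)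
    have h5 : pt t ∈ m.left ⁻¹' A := h4 ▸ Set.mem_univ _
    rw [Set.mem_preimage, ← pt_comp, hm, ht, mul_inv_cancel_left] at h5
    exact hb h5
  exact ⟨hne⟩

end K16.PreimKer
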