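import Groth.Agent.Sga3B.DSPts
import Groth.Agent.Sga3.H816.TorsDense
import Groth.Agent.Sga3A.TorsionDense
import Groth.Agent.Sga3.H797.HomFin

/-!
# Density of the torsion subgroups of a diagonalizable group

`M` a finitely generated abelian group.  Two morphisms `D(M) × X ⟶ Y`, `Y` separated over `S`, agreeing on
`D(M / nM) × X` for all `n > 0` are equal.
-/

set_option autoImplicit false
universe u
open CategoryTheory MonoidalCategory CartesianMonoidalCategory MonObj GrpObj AlgebraicGeometry Limits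

namespace K16.TorsGen

open Groth.Agent Groth.Agent.Sga3B.DSPts Groth.Agent.Sga3.H816.TorsDense

variable {S : Scheme.{u}}

/-- The point of `D(M)` with values in an affine scheme given by a character. -/
noncomputable def chG {B : Type u} [CommRing B] (b : Spec (CommRingCat.of B) ⟶ S) {M : Type} [AddCommGroup M]
    (χ : Multiplicative M →* B) : Over.mk b ⟶ Red.DS S M :=
  dsEquiv (Over.mk b) M ((Scheme.ΓSpecIso (CommRingCat.of B)).inv.hom.toMonoidHom.comp χ)

lemma map_chG {B B' : Type u} [CommRing B] [CommRing B'] (φ : B →+* B') (b : Spec (CommRingCat.of B) ⟶ S)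
    (b' : Spec (CommRingCat.of B') ⟶ S) (h : Spec.map (CommRingCat.ofHom φ) ≫ b = b') {M : Type} [AddCommGroup M]
    (χ : Multiplicative M →* B) :
    (Over.homMk (Spec.map (CommRingCat.ofHom φ)) h : Over.mk b' ⟶ Over.mk b) ≫ chG b χ =
      chG b' (φ.toMonoidHom.comp χ) := by
  rw [chG, dsEquiv_naturality, chG]
  congr 1
  ext m
  have h1 := Scheme.ΓSpecIso_inv_naturality (CommRingCat.ofHom φ)
  exact (congrArg (fun f => f.hom (χ m)) h1).symm

lemma chG_DSmap {B : Type u} [CommRing B] (b : Spec (CommRingCat.of B) ⟶ S) {M N : Type} [AddCommGroup M]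
    [AddCommGroup N] (ψ : M →+ N) (χ : Multiplicative N →* B) :
    chG b χ ≫ Red.DSmap S ψ = chG b (χ.comp (AddMonoidHom.toMultiplicative ψ)) := by
  rw [chG, dsEquiv_DSmap]
  rfl

lemma exists_chG {B : Type u} [CommRing B] (b : Spec (CommRingCat.of B) ⟶ S) {M : Type} [AddCommGroup M]
    (x : Over.mk b ⟶ Red.DS S M) : ∃ χ : Multiplicative M →* B, x = chG b χ := by
  refine ⟨(Scheme.ΓSpecIso (CommRingCat.of B)).hom.hom.toMonoidHom.comp (dsChar x), ?_⟩
  rw [chG]
  conv_lhs => rw [← dsEquiv_dsChar x]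
  congr 1
  ext m
  have h1 := (Scheme.ΓSpecIso (CommRingCat.of B)).hom_inv_id
  exact (congrArg (fun f => f.hom (dsChar x m)) h1).symm

section

variable {J : Type} {M : Type} [AddCommGroup M] {P : J → Type} [∀ i, AddCommGroup (P i)]
  (π : ∀ i, M →+ P i)

/-- the structure morphism of `Spec C[M]` -/
noncomputable abbrev str (C : Type u) [CommRing C] (M : Type) [AddCommGroup M] (c : Spec (CommRingCat.of C) ⟶ S) :
    Spec (CommRingCat.of (MonoidAlgebra C (Multiplicative M))) ⟶ S :=
  Spec.map (CommRingCat.ofHom (algebraMap C (MonoidAlgebra C (Multiplicative M)))) ≫ c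

/-- `Spec C[P] ⟶ Spec C[M]` -/
noncomputable def qm (C : Type u) [CommRing C] {M P : Type} [AddCommGroup M] [AddCommGroup P] (ψ : M →+ P)
    (c : Spec (CommRingCat.of C) ⟶ S) : Over.mk (str C P c) ⟶ Over.mk (str C M c) :=
  Over.homMk (Spec.map (CommRingCat.ofHom (gmap C (AddMonoidHom.toMultiplicative ψ)).toRingHom)) (by
    change Spec.map _ ≫ Spec.map _ ≫ c = Spec.map _ ≫ c
    rw [← Category.assoc, ← Spec.map_comp, ← CommRingCat.ofHom_comp]
    congr 3
    exact (gmap C (AddMonoidHom.toMultiplicative ψ)).comp_algebraMap)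

variable {π} in
theorem eq_of_sep_aff (hπ : Sep fun i => AddMonoidHom.toMultiplicative (π i)) {C : Type u} [CommRing C]
    (c : Spec (CommRingCat.of C) ⟶ S) {Y : Over S} [IsSeparated Y.hom] (α β : Over.mk (str C M c) ⟶ Y)
    (h : ∀ i, qm C (π i) c ≫ α = qm C (π i) c ≫ β) : α = β := by
  obtain ⟨Z, z, hz, hZ, -⟩ := Sga3.H797.HomFin.exists_eq α β
  obtain ⟨I, e, he⟩ := (IsClosedImmersion.Spec_iff
    (R := CommRingCat.of (MonoidAlgebra C (Multiplicative M))) (f := z.left)).1 hz
  have hI : I = ⊥ := by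
    rw [eq_bot_iff]
    intro x hx
    refine eq_zero_of_sep hπ x fun i => ?_
    obtain ⟨t, ht⟩ := (hZ _ (qm C (π i) c)).2 (h i)
    have h1 : t.left ≫ z.left = (qm C (π i) c).left := congrArg CommaMorphism.left ht
    rw [he] at h1
    have h2 : Spec.map (CommRingCat.ofHom (Ideal.Quotient.mk I) ≫ Spec.preimage (t.left ≫ e.hom)) =
        Spec.map (CommRingCat.ofHom (gmap C (AddMonoidHom.toMultiplicative (π i))).toRingHom) := by
      rw [Spec.map_comp, Spec.map_preimage, Category.assoc]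
      exact h1
    have h3 := Spec.map_injective h2
    have h4 := congrArg (fun f => f.hom x) h3
    refine h4.symm.trans ?_
    change (Spec.preimage (t.left ≫ e.hom)).hom (Ideal.Quotient.mk I x) = 0
    rw [Ideal.Quotient.eq_zero_iff_mem.2 hx, map_zero]
  subst hI
  have h1 : IsIso z.left := by
    rw [he]
    have : IsIso (Spec.map (CommRingCat.ofHom (Ideal.Quotient.mk (⊥ : Ideal (MonoidAlgebra C (Multiplicative M)))))) := by
      have h2 : IsIso (CommRingCat.ofHom (Ideal.Quotient.mk (⊥ : Ideal (MonoidAlgebra C (Multiplicative M))))) :=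
        (RingEquiv.quotientBot (MonoidAlgebra C (Multiplicative M))).symm.toCommRingCatIso.isIso_hom
      infer_instance
    infer_instance
  have h2 : IsIso ((Over.forget S).map z) := h1
  have h2' : IsIso z := isIso_of_reflects_iso z (Over.forget S)
  have h3 := (hZ _ (𝟙 _)).1 ⟨inv z, IsIso.inv_hom_id z⟩
  simpa using h3

variable {π} in
/-- **Density.** -/
theorem eq_of_sep (hπ : Sep fun i => AddMonoidHom.toMultiplicative (π i)) {X Y : Over S} [IsSeparated Y.hom]
    (α β : Red.DS S M ⊗ X ⟶ Y)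
    (h : ∀ (i : J) (T : Over S) (d : T ⟶ Red.DS S (P i)) (x : T ⟶ X),
      lift (d ≫ Red.DSmap S (π i)) x ≫ α = lift (d ≫ Red.DSmap S (π i)) x ≫ β) : α = β := by
  have key : ∀ (C : Type u) [CommRing C] (c : Spec (CommRingCat.of C) ⟶ S) (w : Over.mk c ⟶ Red.DS S M ⊗ X),
      w ≫ α = w ≫ β := by
    intro C _ c w
    let x : Over.mk c ⟶ X := w ≫ snd _ _
    obtain ⟨χ, hχ⟩ := exists_chG c (w ≫ fst _ _)
    have hw : w = lift (chG c χ) x := by
      rw [← hχ, ← comp_lift, lift_fst_snd, Category.comp_id]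
    let t : Over.mk (str C M c) ⟶ Over.mk c :=
      Over.homMk (Spec.map (CommRingCat.ofHom (algebraMap C (MonoidAlgebra C (Multiplicative M)))))
    let d₁ : Over.mk (str C M c) ⟶ Red.DS S M := chG (str C M c) (MonoidAlgebra.of C (Multiplicative M))
    have h1 : lift d₁ (t ≫ x) ≫ α = lift d₁ (t ≫ x) ≫ β := by
      refine eq_of_sep_aff hπ c _ _ fun i => ?_
      have h2 : qm C (π i) c ≫ d₁ =
          chG (str C (P i) c) (MonoidAlgebra.of C (Multiplicative (P i))) ≫ Red.DSmap S (π i) := by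
        rw [chG_DSmap]
        refine (map_chG _ _ _ _ _).trans ?_
        congr 1
        refine MonoidHom.ext fun m => ?_
        change gmap C (AddMonoidHom.toMultiplicative (π i)) (MonoidAlgebra.of C (Multiplicative M) m) = _
        simp [gmap]
      have h6 : qm C (π i) c ≫ lift d₁ (t ≫ x) = lift (chG (str C (P i) c)
          (MonoidAlgebra.of C (Multiplicative (P i))) ≫ Red.DSmap S (π i)) (qm C (π i) c ≫ t ≫ x) := by
        rw [comp_lift, h2]
      rw [← Category.assoc _ _ α, ← Category.assoc _ _ β, h6]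
      exact h i _ _ _
    let φ : MonoidAlgebra C (Multiplicative M) →ₐ[C] C := MonoidAlgebra.lift C C (Multiplicative M) χ
    have h3 : Spec.map (CommRingCat.ofHom φ.toRingHom) ≫ str C M c = c := by
      rw [str, ← Category.assoc, ← Spec.map_comp, ← CommRingCat.ofHom_comp]
      have h4 : φ.toRingHom.comp (algebraMap C (MonoidAlgebra C (Multiplicative M))) = RingHom.id C :=
        φ.comp_algebraMap
      rw [h4]
      exact (congrArg (· ≫ c) (Spec.map_id (CommRingCat.of C))).trans (Category.id_comp c)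
    let s : Over.mk c ⟶ Over.mk (str C M c) := Over.homMk (Spec.map (CommRingCat.ofHom φ.toRingHom)) h3
    have hs1 : s ≫ t = 𝟙 _ := by
      ext1
      change Spec.map _ ≫ Spec.map _ = _
      rw [← Spec.map_comp, ← CommRingCat.ofHom_comp]
      have h4 : φ.toRingHom.comp (algebraMap C (MonoidAlgebra C (Multiplicative M))) = RingHom.id C :=
        φ.comp_algebraMap
      rw [h4]
      exact Spec.map_id (CommRingCat.of C)
    have hs2 : s ≫ d₁ = chG c χ := by
      refine (map_chG _ _ _ h3 _).trans ?_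
      congr 1
      refine MonoidHom.ext fun m => ?_
      change φ (MonoidAlgebra.of C (Multiplicative M) m) = _
      simp [φ]
    have hs3 : w = s ≫ lift d₁ (t ≫ x) := by
      rw [comp_lift, hs2, ← Category.assoc, hs1, Category.id_comp, hw]
    rw [hs3, Category.assoc, h1, Category.assoc]
  ext1
  refine Scheme.Cover.hom_ext (Red.DS S M ⊗ X).left.affineCover _ _ fun i => ?_
  have h5 := key _ ((Red.DS S M ⊗ X).left.affineCover.f i ≫ (Red.DS S M ⊗ X).hom)
    (Over.homMk ((Red.DS S M ⊗ X).left.affineCover.f i))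
  exact congrArg CommaMorphism.left h5

end

/-- the projections `M ⟶ M / nM` -/
noncomputable abbrev Pn (M : Type) [AddCommGroup M] (n : ℕ) : Type := M ⧸ (nsmulAddMonoidHom n : M →+ M).range

noncomputable abbrev pn (M : Type) [AddCommGroup M] (n : ℕ) : M →+ Pn M n :=
  QuotientAddGroup.mk' (nsmulAddMonoidHom n : M →+ M).range

theorem exists_not_mem {M : Type} [AddCommGroup M] [AddGroup.FG M] (d : M) (hd : d ≠ 0) :
    ∃ n : ℕ, 0 < n ∧ d ∉ (nsmulAddMonoidHom n : M →+ M).range := by
  by_contra hcon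
  push Not at hcon
  obtain ⟨N, h1⟩ : ∃ N : ℕ, (1 : MonoidAlgebra ℤ (Multiplicative M)) ^ N *
      (MonoidAlgebra.single (Multiplicative.ofAdd d) 1 - MonoidAlgebra.single 1 1) = 0 := by
    refine Groth.Agent.Sga3A.TorsionDense.density _ _ fun n hn => ⟨0, ?_⟩
    rw [pow_zero, _root_.one_mul, map_sub, Groth.Agent.Sga3A.TorsionDense.modPow_single,
      Groth.Agent.Sga3A.TorsionDense.modPow_single, sub_eq_zero]
    congr 1
    rw [map_one]
    refine (QuotientGroup.eq_one_iff _).2 ?_
    obtain ⟨m, hm⟩ := hcon n hn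
    exact ⟨Multiplicative.ofAdd m, congrArg Multiplicative.ofAdd hm⟩
  rw [one_pow, _root_.one_mul, sub_eq_zero] at h1
  have h2 := MonoidAlgebra.of_injective (R := ℤ) (a₁ := Multiplicative.ofAdd d) (a₂ := 1) h1
  exact hd (Multiplicative.ofAdd.injective h2)

theorem sep_pn (M : Type) [AddCommGroup M] [AddGroup.FG M] :
    Sep fun n : ℕ+ => AddMonoidHom.toMultiplicative (pn M n) := by
  classical
  intro F
  have hex : ∀ q : Multiplicative M × Multiplicative M, ∃ n : ℕ+, q.1 ≠ q.2 →
      AddMonoidHom.toMultiplicative (pn M n) q.1 ≠ AddMonoidHom.toMultiplicative (pn M n) q.2 := by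
    intro q
    by_cases hq : q.1 = q.2
    · exact ⟨1, fun h => (h hq).elim⟩
    · obtain ⟨n, hn, h⟩ := exists_not_mem (M := M) (q.1.toAdd - q.2.toAdd) (by
        rw [Ne, sub_eq_zero]
        exact fun h => hq (Multiplicative.toAdd.injective h))
      refine ⟨⟨n, hn⟩, fun _ h1 => h ?_⟩
      have h2 : pn M n q.1.toAdd = pn M n q.2.toAdd := h1
      rw [← sub_eq_zero, ← map_sub] at h2
      exact (QuotientAddGroup.eq_zero_iff _).1 h2
  choose f hf using hex
  refine ⟨∏ q ∈ F ×ˢ F, f q, fun a ha b hb hab => ?_⟩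
  by_contra hne
  refine hf (a, b) hne ?_
  have h1 : pn M (∏ q ∈ F ×ˢ F, f q : ℕ+) a.toAdd = pn M (∏ q ∈ F ×ˢ F, f q : ℕ+) b.toAdd := hab
  rw [← sub_eq_zero, ← map_sub] at h1
  obtain ⟨m, hm⟩ := (QuotientAddGroup.eq_zero_iff _).1 h1
  have h2 : f (a, b) ∣ ∏ q ∈ F ×ˢ F, f q := Finset.dvd_prod_of_mem f (Finset.mem_product.2 ⟨ha, hb⟩)
  obtain ⟨c, hc⟩ := h2
  change pn M (f (a, b)) a.toAdd = pn M (f (a, b)) b.toAdd
  rw [← sub_eq_zero, ← map_sub]
  refine (QuotientAddGroup.eq_zero_iff _).2 ⟨(c : ℕ) • m, ?_⟩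
  rw [← hm, hc]
  change (f (a, b) : ℕ) • (c : ℕ) • m = ((f (a, b) * c : ℕ+) : ℕ) • m
  rw [PNat.mul_coe, mul_smul]

instance finite_Pn (M : Type) [AddCommGroup M] [AddGroup.FG M] (n : ℕ+) : Finite (Pn M n) := by
  have h1 : AddGroup.FG (Pn M n) := inferInstance
  refine @AddCommGroup.finite_of_fg_isAddTorsion _ _ h1 ?_
  intro x
  obtain ⟨m, rfl⟩ := QuotientAddGroup.mk_surjective x
  rw [isOfFinAddOrder_iff_nsmul_eq_zero]
  refine ⟨n, n.2, ?_⟩
  exact (QuotientAddGroup.eq_zero_iff _).2 ⟨m, rfl⟩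

end K16.TorsGen
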